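import Cfsg.Agent.Lib.ClassSizeTriple.Split

/-!
# Class sizes `1`, `n`, `m`, `n m`: general lemmas
-/

set_option autoImplicit false
set_option linter.style.haveILetI false
set_option linter.unusedSectionVars false

namespace Cfsg.Agent.ClassQuad

open Cfsg.Agent.ClassTriple

universe u

variable {G : Type u} [Group G]

/-- The standing hypothesis. -/
structure Quad (G : Type u) [Group G] (n m : ℕ) : Prop where
  one_lt_n : 1 < n
  one_lt_m : 1 < m
  cop : n.Coprime m
  sizes : ∀ g : G, sz g = 1 ∨ sz g = n ∨ sz g = m ∨ sz g = n * m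
  ex_n : ∃ g : G, sz g = n
  ex_m : ∃ g : G, sz g = m
  ex_nm : ∃ g : G, sz g = n * m

variable {n m : ℕ}

theorem Quad.symm (h : Quad G n m) : Quad G m n where
  one_lt_n := h.one_lt_m
  one_lt_m := h.one_lt_n
  cop := h.cop.symm
  sizes g := by
    rcases h.sizes g with e | e | e | e
    · exact .inl e
    · exact .inr (.inr (.inl e))
    · exact .inr (.inl e)
    · exact .inr (.inr (.inr (e.trans (mul_comm _ _))))
  ex_n := h.ex_m
  ex_m := h.ex_n
  ex_nm := h.ex_nm.imp fun _ e => e.trans (mul_comm _ _)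

namespace Quad

variable (h : Quad G n m)
include h

lemma not_dvd_m_of_dvd_n {r : ℕ} (hr : r.Prime) (hrn : r ∣ n) : ¬ r ∣ m := fun hrm =>
  hr.not_dvd_one (h.cop ▸ Nat.dvd_gcd hrn hrm)

lemma not_dvd_n_of_dvd_m {r : ℕ} (hr : r.Prime) (hrm : r ∣ m) : ¬ r ∣ n := fun hrn =>
  h.not_dvd_m_of_dvd_n hr hrn hrm

lemma eq_one_of_dvd_both {a : ℕ} (h1 : a ∣ n) (h2 : a ∣ m) : a = 1 :=
  Nat.eq_one_of_dvd_coprimes h.cop h1 h2

lemma not_m_dvd_n : ¬ m ∣ n := fun hd => h.one_lt_m.ne' (h.eq_one_of_dvd_both hd dvd_rfl)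

lemma not_n_dvd_m : ¬ n ∣ m := fun hd => h.one_lt_n.ne' (h.eq_one_of_dvd_both dvd_rfl hd)

lemma sz_of_dvd_n {g : G} (hd : sz g ∣ n) : sz g = 1 ∨ sz g = n := by
  rcases h.sizes g with e | e | e | e
  · exact .inl e
  · exact .inr e
  · exact absurd (e ▸ hd) h.not_m_dvd_n
  · exact absurd (dvd_trans (dvd_mul_left m n) (e ▸ hd)) h.not_m_dvd_n

lemma sz_of_n_dvd {g : G} (hd : n ∣ sz g) : sz g = n ∨ sz g = n * m := by
  rcases h.sizes g with e | e | e | e
  · rw [e] at hd; have := h.one_lt_n; have := Nat.le_of_dvd one_pos hd; omega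
  · exact .inl e
  · exact absurd (e ▸ hd) h.not_n_dvd_m
  · exact .inr e

lemma sz_eq_nm_of_dvd {g : G} (hd : n * m ∣ sz g) : sz g = n * m := by
  rcases h.sz_of_n_dvd (dvd_trans (dvd_mul_right n m) hd) with e | e
  · exact absurd (dvd_trans (dvd_mul_left m n) (e ▸ hd)) h.not_m_dvd_n
  · exact e

lemma not_center_of_n {g : G} (hg : sz g = n) : g ∉ Subgroup.center G := fun hz => by
  have := sz_eq_one_iff.2 hz; rw [hg] at this; exact h.one_lt_n.ne' this

lemma not_center_of_nm {g : G} (hg : sz g = n * m) : g ∉ Subgroup.center G := fun hz => by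
  have h1 := sz_eq_one_iff.2 hz
  rw [hg, mul_eq_one] at h1
  exact h.one_lt_n.ne' h1.1

lemma n_pos : 0 < n := lt_trans one_pos h.one_lt_n

variable [Finite G]

lemma exists_primary_n : ∃ (p : ℕ) (x : G), p.Prime ∧ IsPPow p x ∧ sz x = n := by
  obtain ⟨g, hg⟩ := h.ex_n
  by_contra hc
  push Not at hc
  refine h.not_center_of_n hg (mem_of_primary fun p hp a ha hpa => ?_)
  rcases h.sz_of_dvd_n (hg ▸ sz_dvd (cen_le_of_mem_zpowers ha)) with e | e
  · exact sz_eq_one_iff.1 e
  · exact absurd e (hc p a hp hpa)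

/-- Equal class size and comparable centralizers. -/
lemma cen_eq_of_le {a b : G} (hle : cen a ≤ cen b) (ha : sz a = n) (hb : b ∉ Subgroup.center G) :
    cen a = cen b := by
  rcases h.sz_of_dvd_n (ha ▸ sz_dvd hle) with e | e
  · exact absurd (sz_eq_one_iff.1 e) hb
  · exact eq_of_le_of_index hle (ha.trans e.symm)

/-- Centralizers of elements of size `n m` are minimal. -/
lemma nm_min {a b : G} (hle : cen a ≤ cen b) (hb : sz b = n * m) : cen a = cen b :=
  eq_of_le_of_index hle ((h.sz_eq_nm_of_dvd (hb ▸ sz_dvd hle)).trans hb.symm)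

/-- If `v` has class size `n m`, the elements of coprime order in `cen v` centralize it. -/
lemma cen_le_of_nm {v g : G} (hv : sz v = n * m) (hg : g ∈ cen v)
    (hco : (orderOf v).Coprime (orderOf g)) : cen v ≤ cen g := by
  have heq := cen_mul_eq (mem_cen.1 hg) hco
  rw [← h.nm_min (a := v * g) (heq ▸ inf_le_left) hv, heq]
  exact inf_le_right

omit h in
lemma sz_mul_eq {x g : G} (hg : g ∈ cen x) (hco : (orderOf x).Coprime (orderOf g)) :
    sz (x * g) = (cen g).relIndex (cen x) * sz x := by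
  show (cen (x * g)).index = _
  rw [cen_mul_eq (mem_cen.1 hg) hco, ← Subgroup.relIndex_mul_index (inf_le_left : cen x ⊓ cen g ≤ cen x),
    Subgroup.inf_relIndex_left]

/-- Inside the centralizer of an element of class size `n`. -/
lemma rel_cases {x g : G} (hx : sz x = n) (hg : g ∈ cen x)
    (hco : (orderOf x).Coprime (orderOf g)) :
    (cen g).relIndex (cen x) = 1 ∨ (cen g).relIndex (cen x) = m := by
  have heq := sz_mul_eq hg hco
  rw [hx] at heq
  rcases h.sz_of_n_dvd (g := x * g) (heq ▸ dvd_mul_left n _) with e | e <;> rw [e] at heq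
  · left
    exact (Nat.eq_of_mul_eq_mul_right h.n_pos (heq.symm.trans (one_mul n).symm))
  · right
    rw [mul_comm n m] at heq
    exact (Nat.eq_of_mul_eq_mul_right h.n_pos heq.symm)

omit h in
lemma rel_one_iff {x g : G} : (cen g).relIndex (cen x) = 1 ↔ cen x ≤ cen g :=
  Subgroup.relIndex_eq_one

/-- Elements whose order is prime to `n m` are central. -/
lemma central_of_not_dvd {r : ℕ} [Fact r.Prime] (hn : ¬ r ∣ n) (hm : ¬ r ∣ m) {a : G}
    (ha : IsPPow r a) : a ∈ Subgroup.center G := by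
  have hr : r.Prime := Fact.out
  have hnd : ∀ g : G, ¬ r ∣ sz g := fun g hd => by
    rcases h.sizes g with e | e | e | e <;> rw [e] at hd
    · exact hr.not_dvd_one hd
    · exact hn hd
    · exact hm hd
    · exact (hr.dvd_mul.1 hd).elim hn hm
  obtain ⟨S⟩ := (inferInstance : Nonempty (Sylow r G))
  have hS : Subgroup.centralizer ((S : Subgroup G) : Set G) = ⊤ := by
    refine Counting.eq_top_of_conj_cover _ fun g => ?_
    obtain ⟨S', hS'⟩ := exists_sylow_le (p := r) (H := cen g) (hnd g)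
    obtain ⟨y, hy⟩ := MulAction.exists_smul_eq G S S'
    refine ⟨y, Subgroup.mem_centralizer_iff.2 fun s hs => ?_⟩
    have h1 : y * s * y⁻¹ ∈ cen g := hS' (by
      rw [← hy, Sylow.coe_subgroup_smul]
      exact Subgroup.smul_mem_pointwise_smul s (MulAut.conj y) _ hs)
    have h2 := mem_cen.1 h1
    calc s * (y⁻¹ * g * y) = y⁻¹ * ((y * s * y⁻¹) * g) * y := by group
      _ = y⁻¹ * (g * (y * s * y⁻¹)) * y := by rw [h2]
      _ = y⁻¹ * g * y * s := by group
  obtain ⟨y, hy⟩ := exists_conj_mem S ha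
  have h3 : y * a * y⁻¹ ∈ Subgroup.center G := by
    rw [Subgroup.mem_center_iff]
    intro g
    exact (Subgroup.mem_centralizer_iff.1 (hS ▸ Subgroup.mem_top g) _ hy).symm
  have := (inferInstance : (Subgroup.center G).Normal).conj_mem _ h3 y⁻¹
  rwa [show y⁻¹ * (y * a * y⁻¹) * y⁻¹⁻¹ = a by group] at this

end Quad

end Cfsg.Agent.ClassQuad
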