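import Mathlib.GroupTheory.PGroup
import Mathlib.Algebra.BigOperators.Group.Finset.Basic
import Mathlib.Algebra.Group.End

/-!
# A norm identity for a Frobenius action
-/

set_option autoImplicit false

namespace Cfsg.Agent.ClassQuad

variable {Q P : Type*} [Group Q] [CommGroup P] [Finite Q] [Finite P]

/-- If `h` acts without fixed points on `E` and all norms of `h` vanish modulo `Z`, while the
nontrivial elements of `E` fix only `Z`, then `Z` is everything. -/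
theorem eq_top_of_norms (ρ : Q →* MulAut P) (Z : Subgroup P) (E : Subgroup Q) {r s : ℕ}
    (hr : r.Prime) (hs : s.Prime) (hrs : r ≠ s) (hE : IsPGroup s E) (hE1 : E ≠ ⊥)
    (hP : IsPGroup r P) (h : Q) (hh : h ^ r = 1) (hnorm : ∀ e ∈ E, h * e * h⁻¹ ∈ E)
    (hfree : ∀ e ∈ E, h * e = e * h → e = 1)
    (hZ : ∀ (μ : Q), ∀ u ∈ Z, ρ μ u ∈ Z)
    (hfix : ∀ e ∈ E, e ≠ 1 → ∀ u, ρ e u = u → u ∈ Z)
    (hN : ∀ u, (∏ j ∈ Finset.range r, ρ (h ^ j) u) ∈ Z) : Z = ⊤ := by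
  classical
  haveI : Fintype E := Fintype.ofFinite _
  rw [eq_top_iff]
  intro u _
  have hpow : ∀ j : ℕ, ∀ e ∈ E, h ^ j * e * (h ^ j)⁻¹ ∈ E := by
    intro j e he
    induction j with
    | zero => simpa using he
    | succ j ih =>
      rw [pow_succ', mul_inv_rev, show h * h ^ j * e * ((h ^ j)⁻¹ * h⁻¹) =
        h * (h ^ j * e * (h ^ j)⁻¹) * h⁻¹ by group]
      exact hnorm _ ih
  have hsum : ∀ w : P, (∏ e : E, ρ (e : Q) w) ∈ Z := by
    intro w
    obtain ⟨⟨e₀, he₀⟩, hne⟩ := Subgroup.ne_bot_iff_exists_ne_one.1 hE1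
    refine hfix e₀ he₀ (fun hc => hne (Subtype.ext hc)) _ ?_
    rw [map_prod]
    exact Fintype.prod_equiv (Equiv.mulLeft (⟨e₀, he₀⟩ : E)) _ _ fun e => by simp
  have h1 : (∏ e : E, ρ (e : Q) (∏ j ∈ Finset.range r, ρ (h ^ j) (ρ (e : Q)⁻¹ u))) ∈ Z :=
    Subgroup.prod_mem _ fun e _ => hZ _ _ (hN _)
  simp only [map_prod] at h1
  rw [Finset.prod_comm, ← Finset.mul_prod_erase _ _ (Finset.mem_range.2 hr.pos)] at h1
  have h2 : (∏ j ∈ (Finset.range r).erase 0,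
      ∏ e : E, ρ (e : Q) (ρ (h ^ j) (ρ (e : Q)⁻¹ u))) ∈ Z := by
    refine Subgroup.prod_mem _ fun j hj => ?_
    obtain ⟨hj0, hjr⟩ := Finset.mem_erase.1 hj
    let f : E → E := fun e => ⟨(e : Q) * (h ^ j * (e : Q)⁻¹ * (h ^ j)⁻¹),
      E.mul_mem e.2 (hpow j _ (E.inv_mem e.2))⟩
    have hinj : Function.Injective f := by
      intro a b hab
      have hab' : (a : Q) * (h ^ j * (a : Q)⁻¹ * (h ^ j)⁻¹) =
          (b : Q) * (h ^ j * (b : Q)⁻¹ * (h ^ j)⁻¹) := congrArg Subtype.val hab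
      have hc : Commute (h ^ j) ((a : Q)⁻¹ * (b : Q)) := by
        show h ^ j * ((a : Q)⁻¹ * b) = (a : Q)⁻¹ * b * h ^ j
        calc h ^ j * ((a : Q)⁻¹ * b) = (a : Q)⁻¹ * ((a : Q) * (h ^ j * (a : Q)⁻¹ * (h ^ j)⁻¹)) * h ^ j * b := by group
          _ = (a : Q)⁻¹ * ((b : Q) * (h ^ j * (b : Q)⁻¹ * (h ^ j)⁻¹)) * h ^ j * b := by rw [hab']
          _ = (a : Q)⁻¹ * b * h ^ j := by group
      obtain ⟨k, hk⟩ := exists_pow_eq_self_of_coprime (x := h) (n := j) (by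
        refine Nat.Coprime.coprime_dvd_right (orderOf_dvd_of_pow_eq_one hh) ?_
        exact (hr.coprime_iff_not_dvd.2 fun hd => hj0
          (Nat.eq_zero_of_dvd_of_lt hd (Finset.mem_range.1 hjr))).symm)
      have hh' : Commute h ((a : Q)⁻¹ * (b : Q)) := hk ▸ hc.pow_left k
      have := hfree _ (E.mul_mem (E.inv_mem a.2) b.2) hh'.eq
      exact Subtype.ext (inv_mul_eq_one.1 this)
    have heq : (∏ e : E, ρ (e : Q) (ρ (h ^ j) (ρ (e : Q)⁻¹ u))) =
        ∏ e : E, ρ (e : Q) (ρ (h ^ j) u) := by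
      refine Fintype.prod_equiv (Equiv.ofBijective f (Finite.injective_iff_bijective.1 hinj)) _ _
        fun e => ?_
      rw [← MulAut.mul_apply, ← MulAut.mul_apply, ← map_mul, ← map_mul, ← MulAut.mul_apply,
        ← map_mul]
      congr 1
      congr 1
      show _ = (e : Q) * (h ^ j * (e : Q)⁻¹ * (h ^ j)⁻¹) * h ^ j
      group
    rw [heq]
    exact hsum _
  rw [Subgroup.mul_mem_cancel_right _ h2] at h1
  have h3 : u ^ Nat.card E ∈ Z := by
    have h4 : (∏ e : E, ρ (e : Q) (ρ (h ^ 0) (ρ (e : Q)⁻¹ u))) = u ^ Nat.card E := by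
      rw [Finset.prod_congr rfl (fun e _ => by
        rw [pow_zero, map_one, MulAut.one_apply, map_inv, MulAut.apply_inv_self]),
        Finset.prod_const, Finset.card_univ, Nat.card_eq_fintype_card]
    rwa [← h4]
  obtain ⟨a, ha⟩ := hP u
  haveI := Fact.mk hs
  obtain ⟨k, hk⟩ := hE.exists_card_eq
  obtain ⟨l, hl⟩ := exists_pow_eq_self_of_coprime (x := u) (n := Nat.card E) (by
    refine Nat.Coprime.coprime_dvd_right (orderOf_dvd_of_pow_eq_one ha) ?_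
    rw [hk]
    exact ((Nat.coprime_primes hs hr).2 hrs.symm).pow k a)
  exact hl ▸ Z.pow_mem h3 l

end Cfsg.Agent.ClassQuad
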