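import Cfsg.Agent.Lib.ClassSizeQuad.Torus
import Cfsg.Agent.Lib.ClassSizeQuad.Sum
import Cfsg.Agent.Lib.ClassSizeTriple.PrimePower

/-!
# Class sizes `1`, `n`, `m`, `n m`: neither `n` nor `m` a prime power
-/

set_option autoImplicit false
set_option linter.style.haveILetI false
set_option linter.unusedSectionVars false

namespace Cfsg.Agent.ClassQuad

open Cfsg.Agent.ClassTriple

universe u

variable {G : Type u} [Group G] [Finite G] {n m p q s r : ℕ}

lemma center_map_eq_one {a : G} :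
    QuotientGroup.mk' (Subgroup.center G) a = 1 ↔ a ∈ Subgroup.center G :=
  QuotientGroup.eq_one_iff a

lemma comm_mod_iff {a b : G} :
    a * b * a⁻¹ * b⁻¹ ∈ Subgroup.center G ↔
      Commute (QuotientGroup.mk' (Subgroup.center G) a) (QuotientGroup.mk' (Subgroup.center G) b) := by
  rw [← center_map_eq_one, map_mul, map_mul, map_mul, map_inv, map_inv, mul_inv_eq_one,
    mul_inv_eq_iff_eq_mul]
  exact Iff.rfl

lemma conj_mem_center_iff {a : G} (y : G) :
    y * a * y⁻¹ ∈ Subgroup.center G ↔ a ∈ Subgroup.center G := by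
  refine ⟨fun hz => ?_, fun ha => (inferInstance : (Subgroup.center G).Normal).conj_mem _ ha y⟩
  have := (inferInstance : (Subgroup.center G).Normal).conj_mem _ hz y⁻¹
  rwa [show y⁻¹ * (y * a * y⁻¹) * y⁻¹⁻¹ = a by group] at this

namespace Ctx

variable (c : Ctx G n m p q s)
include c

/-- The torus of a non-central `s`-element is commutative. -/
lemma hD {v : G} (hv : IsPPow s v) (hvnc : v ∉ Subgroup.center G) :
    ∀ a ∈ cen v, ∀ b ∈ cen v, a * b = b * a := fun _ ha _ hb =>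
  mem_cen.1 (c.comm hv hvnc ha hb)

/-- The `ℓ`-part of a torus. -/
def part {v : G} (hv : IsPPow s v) (hvnc : v ∉ Subgroup.center G) (ℓ : ℕ) : Subgroup G :=
  ppart (cen v) (c.hD hv hvnc) ℓ

variable {v : G} (hv : IsPPow s v) (hvnc : v ∉ Subgroup.center G)
include hv hvnc

theorem cen_r (c' : Ctx G m n q p r) {ρ : G} (hρ : ρ ∈ cen v) (hρr : IsPPow r ρ)
    (hρnc : ρ ∉ Subgroup.center G) : cen ρ = cen v :=
  (c.caseB.toQuad.nm_min (c.comm hv hvnc hρ) ((c'.sT ρ hρr hρnc).trans (mul_comm _ _))).symm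

lemma l_pow {l : G} (hl : IsPPow s l) (hlT : l ∉ cen v) (hls : l ^ s ∈ cen v) :
    l ^ s ∈ Subgroup.center G := by
  by_contra hc
  refine hlT ?_
  rw [← c.cen_of_s hv hvnc hls (hl.pow _) hc]
  exact mem_cen.2 ((Commute.refl l).pow_left s)

lemma sup_part {l : G} (hl : IsPPow s l)
    (hlN : l ∈ Subgroup.normalizer ((cen v : Subgroup G) : Set G)) :
    IsPGroup s (Subgroup.zpowers l ⊔ c.part hv hvnc s : Subgroup G) ∧
      Subgroup.zpowers l ⊔ c.part hv hvnc s ≤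
        Subgroup.normalizer ((c.part hv hvnc s : Subgroup G) : Set G) := by
  haveI := Fact.mk c.sp
  have hle : Subgroup.zpowers l ≤ Subgroup.normalizer ((c.part hv hvnc s : Subgroup G) : Set G) :=
    Subgroup.zpowers_le.2 (normalizer_le_normalizer_ppart s hlN)
  exact ⟨IsPGroup.to_sup_of_normal_right' (hl.isPGroup_zpowers c.sp) (ppart_isPGroup s) hle,
    sup_le hle Subgroup.le_normalizer⟩

theorem exists_fixed {l : G} (hl : IsPPow s l)
    (hlN : l ∈ Subgroup.normalizer ((cen v : Subgroup G) : Set G)) :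
    ∃ z ∈ cen v, IsPPow s z ∧ z ∉ Subgroup.center G ∧ z ^ s ∈ Subgroup.center G ∧
      l * z * l⁻¹ * z⁻¹ ∈ Subgroup.center G := by
  obtain ⟨h1, h2⟩ := c.sup_part hv hvnc hl hlN
  obtain ⟨z, hz, hznc, hzs, hzc⟩ := exists_special c.sp h1 le_sup_right h2
    (fun hle => hvnc (hle ⟨mem_cen_self v, hv⟩))
  exact ⟨z, hz.1, hz.2, hznc, hzs, hzc l (Subgroup.mem_sup_left (Subgroup.mem_zpowers l))⟩

/-- The elements of order `s` fixed by an outside element form a line. -/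
theorem fixed_line (c' : Ctx G m n q p r) {l z u : G} (hl : IsPPow s l) (hlT : l ∉ cen v)
    (hz : z ∈ cen v) (hzs : IsPPow s z) (hznc : z ∉ Subgroup.center G)
    (hzp : z ^ s ∈ Subgroup.center G) (hzl : l * z * l⁻¹ * z⁻¹ ∈ Subgroup.center G)
    (hu : u ∈ cen v) (hus : IsPPow s u) (hup : u ^ s ∈ Subgroup.center G)
    (hul : l * u * l⁻¹ * u⁻¹ ∈ Subgroup.center G) :
    ∃ i : ℤ, u * (z ^ i)⁻¹ ∈ Subgroup.center G := by
  by_contra hno
  push Not at hno
  have hlnc : l ∉ Subgroup.center G := fun hc => hlT (center_le_cen v hc)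
  have hN : ∀ t : G, l * t * l⁻¹ * t⁻¹ ∈ Subgroup.center G →
      t ∈ Subgroup.normalizer ((cen l : Subgroup G) : Set G) := fun t ht => mem_normalizer_cen (by
    have := (Subgroup.center G).inv_mem ht
    simpa [mul_assoc] using this)
  haveI := Fact.mk c'.sp
  obtain ⟨ρ, hρ, hρr, hρnc⟩ := c'.exists_s_cen l
  have hrs : r ≠ s := fun e => c.sn (e ▸ c'.sm)
  have hcov : c.part hl hlnc r ≤ cen v := by
    refine covering c.sp (ppart_isPGroup (D := cen v) (hD := c.hD hv hvnc) s) ⟨hz, hzs⟩ ⟨hu, hus⟩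
      hzp hup ?_ hznc hno (normalizer_le_normalizer_ppart r (hN z hzl))
      (normalizer_le_normalizer_ppart r (hN u hul)) ?_ (center_le_cen v) fun e he hes henc => ?_
    · rw [c.hD hv hvnc z hz u hu, mul_inv_cancel_right, mul_inv_cancel]; exact one_mem _
    · obtain ⟨k, hk⟩ := (ppart_isPGroup (D := cen l) (hD := c.hD hl hlnc) r).exists_card_eq
      show (Nat.card (ppart (cen l) _ r)).Coprime s
      rw [hk]; exact ((Nat.coprime_primes c'.sp c.sp).2 hrs).pow_left k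
    · exact inf_le_right.trans (c.cen_of_s hv hvnc ((Subgroup.closure_le (K := cen v)).2
        (by rintro _ (rfl | rfl) <;> assumption) he) hes henc).le
  refine hlT ?_
  rw [← c.cen_r hv hvnc c' (hcov ⟨hρ, hρr⟩) hρr hρnc, c.cen_r hl hlnc c' hρ hρr hρnc]
  exact mem_cen_self l

omit hv hvnc in
lemma line_conj {T : Subgroup G} {z : G} (hL : Line T s z) (y : G) :
    Line (T.map (MulAut.conj y).toMonoidHom) s (y * z * y⁻¹) := by
  obtain ⟨hzT, hzs, hznc, hzp, hall⟩ := hL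
  refine ⟨⟨z, hzT, rfl⟩, hzs.conj y, fun h => hznc ((conj_mem_center_iff y).1 h),
    by rw [conj_pow]; exact (conj_mem_center_iff y).2 hzp, ?_⟩
  rintro _ ⟨u, hu, rfl⟩ hus hup
  have e : (MulAut.conj y).toMonoidHom u = y * u * y⁻¹ := rfl
  rw [e] at hus hup ⊢
  obtain ⟨i, hi⟩ := hall u hu (by
    have := hus.conj y⁻¹
    rwa [show y⁻¹ * (y * u * y⁻¹) * y⁻¹⁻¹ = u by group] at this)
    (by rw [conj_pow] at hup; exact (conj_mem_center_iff y).1 hup)
  refine ⟨i, ?_⟩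
  rw [conj_zpow, show y * u * y⁻¹ * (y * z ^ i * y⁻¹)⁻¹ = y * (u * (z ^ i)⁻¹) * y⁻¹ by group]
  exact (conj_mem_center_iff y).2 hi

theorem r_dvd (c' : Ctx G m n q p r) {z : G} (hL : Line (cen v) s z) : r ∣ s - 1 := by
  obtain ⟨hzT, hzs, hznc, hzp, hall⟩ := hL
  obtain ⟨ρ, hρ, hρr, hρnc⟩ := c'.exists_s_cen v
  have hTρ := c.cen_r hv hvnc c' hρ hρr hρnc
  obtain ⟨y, hyT, hy, hym⟩ := c'.exists_x hρr hρnc
  obtain ⟨h, -, hh, hhN, hhT, -⟩ := c'.exists_g hρr hρnc hym hy (mem_cen_symm hyT)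
  rw [hTρ] at hhN hhT
  refine dvd_pred_of_line c.sp c'.sp hznc hzp hh
    (hall _ ((Subgroup.mem_normalizer_iff.1 hhN z).1 hzT) (hzs.conj h)
      (by rw [conj_pow]; exact (conj_mem_center_iff h).2 hzp)) fun hc => hhT ?_
  rw [← c.cen_of_s hv hvnc hzT hzs hznc]
  exact mem_cen_of_coprime hc (hh.coprime c'.sp c.sp (fun e => c.sn (e ▸ c'.sm)) hzs)

/-- Without a line, some torus element moves the outside element along the fixed line. -/
theorem exists_move (c' : Ctx G m n q p r) (hno : ∀ z, ¬ Line (cen v) s z) {l z : G}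
    (hl : IsPPow s l) (hlN : l ∈ Subgroup.normalizer ((cen v : Subgroup G) : Set G))
    (hlT : l ∉ cen v) (hz : z ∈ cen v) (hzs : IsPPow s z) (hznc : z ∉ Subgroup.center G)
    (hzp : z ^ s ∈ Subgroup.center G) (hzl : l * z * l⁻¹ * z⁻¹ ∈ Subgroup.center G) :
    ∃ a ∈ cen v, ∃ k : ℤ, ¬ (s : ℤ) ∣ k ∧ IsPPow s a ∧ a ^ s ∈ Subgroup.center G ∧
      a * l * a⁻¹ * (l * z ^ k)⁻¹ ∈ Subgroup.center G := by
  set π := QuotientGroup.mk' (Subgroup.center G)
  obtain ⟨h1, -⟩ := c.sup_part hv hvnc hl hlN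
  set P := c.part hv hvnc s with hP
  let Ω : Subgroup G :=
    { carrier := {a | a ∈ P ∧ a ^ s ∈ Subgroup.center G}
      one_mem' := ⟨P.one_mem, by rw [one_pow]; exact one_mem _⟩
      mul_mem' := fun {a b} ha hb => ⟨P.mul_mem ha.1 hb.1, by
        rw [(show Commute a b from c.hD hv hvnc a ha.1.1 b hb.1.1).mul_pow]
        exact mul_mem ha.2 hb.2⟩
      inv_mem' := fun ha => ⟨P.inv_mem ha.1, by rw [inv_pow]; exact inv_mem ha.2⟩ }
  set Z0 := (Subgroup.zpowers (π z)).comap π with hZ0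
  have hnΩ : Subgroup.zpowers l ⊔ P ≤ Subgroup.normalizer (Ω : Set G) := fun t ht => by
    have htP := (c.sup_part hv hvnc hl hlN).2 ht
    refine Subgroup.mem_normalizer_iff.2 fun a => ?_
    show a ∈ P ∧ a ^ s ∈ _ ↔ t * a * t⁻¹ ∈ P ∧ (t * a * t⁻¹) ^ s ∈ _
    rw [conj_pow, conj_mem_center_iff, ← Subgroup.mem_normalizer_iff.1 htP a]
  have hcomm : ∀ t ∈ Subgroup.zpowers l ⊔ P, Commute (π t) (π z) := by
    have hle : Subgroup.zpowers l ⊔ P ≤ (Subgroup.centralizer ({π z} : Set _)).comap π := by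
      refine sup_le (Subgroup.zpowers_le.2 ?_) fun t ht => ?_
      · exact Subgroup.mem_centralizer_singleton_iff.2 (comm_mod_iff.1 hzl).eq
      · exact Subgroup.mem_centralizer_singleton_iff.2
          ((show Commute t z from c.hD hv hvnc t ht.1 z hz).map π).eq
    exact fun t ht => Subgroup.mem_centralizer_singleton_iff.1 (hle ht)
  have hn0 : Subgroup.zpowers l ⊔ P ≤ Subgroup.normalizer (Z0 : Set G) := fun t ht => by
    refine Subgroup.mem_normalizer_iff.2 fun a => ?_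
    show π a ∈ Subgroup.zpowers (π z) ↔ π (t * a * t⁻¹) ∈ Subgroup.zpowers (π z)
    rw [map_mul, map_mul, map_inv]
    constructor
    · intro ha
      obtain ⟨i, hi⟩ := Subgroup.mem_zpowers_iff.1 ha
      rw [← hi, ((hcomm t ht).zpow_right i).eq, mul_inv_cancel_right]
      exact Subgroup.zpow_mem _ (Subgroup.mem_zpowers _) i
    · intro ha
      obtain ⟨i, hi⟩ := Subgroup.mem_zpowers_iff.1 ha
      have h3 : π a = π z ^ i := by
        calc π a = (π t)⁻¹ * (π t * π a * (π t)⁻¹) * π t := by group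
          _ = (π t)⁻¹ * π z ^ i * π t := by rw [← hi]
          _ = π z ^ i := by rw [mul_assoc, ← ((hcomm t ht).zpow_right i).eq, inv_mul_cancel_left]
      rw [h3]; exact Subgroup.zpow_mem _ (Subgroup.mem_zpowers _) i
  have hQ : ¬ Ω ≤ Z0 := by
    intro hle
    refine hno z ⟨hz, hzs, hznc, hzp, fun u hu hus hup => ?_⟩
    obtain ⟨i, hi⟩ := Subgroup.mem_zpowers_iff.1 (hle (show u ∈ Ω from ⟨⟨hu, hus⟩, hup⟩))
    refine ⟨i, center_map_eq_one.1 ?_⟩
    rw [map_mul, map_inv, map_zpow, hi, mul_inv_cancel]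
  obtain ⟨a, ⟨⟨haT, has⟩, hap⟩, haZ0, hac⟩ := exists_special_rel c.sp h1
    (fun a (ha : a ∈ Ω) => Subgroup.mem_sup_right ha.1) hnΩ hn0 hQ
  obtain ⟨k, hk⟩ := Subgroup.mem_zpowers_iff.1
    (hac l (Subgroup.mem_sup_left (Subgroup.mem_zpowers l)))
  have hknd : ¬ (s : ℤ) ∣ k := fun hd => haZ0 (by
    have hc : π z ^ k = 1 := by
      rw [← map_zpow]; exact center_map_eq_one.2 ((pow_mem_center_iff c.sp hznc hzp).2 hd)
    rw [hc, eq_comm, center_map_eq_one] at hk
    obtain ⟨i, hi⟩ := c.fixed_line hv hvnc c' hl hlT hz hzs hznc hzp hzl haT has hap hk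
    show π a ∈ Subgroup.zpowers (π z)
    exact Subgroup.mem_zpowers_iff.2 ⟨i, by
      rw [← map_zpow, eq_comm, ← mul_inv_eq_one, ← map_inv, ← map_mul]
      exact center_map_eq_one.2 hi⟩)
  refine ⟨a, haT, -k, fun hd => hknd (dvd_neg.1 hd), has, hap, center_map_eq_one.1 ?_⟩
  rw [map_mul, map_inv, mul_inv_eq_one]
  simp only [map_mul, map_inv, map_zpow] at hk ⊢
  have h2 : π a * π l = π z ^ (-k) * π l * π a := by
    rw [zpow_neg, hk]; group
  rw [h2, mul_inv_cancel_right]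
  exact (((hcomm l (Subgroup.mem_sup_left (Subgroup.mem_zpowers l))).zpow_right (-k)).symm).eq

theorem line_of_two (c' : Ctx G m n q p r) (hs2 : s = 2) : ∃ z, Line (cen v) s z := by
  by_contra hno
  push Not at hno
  obtain ⟨x, hxT, hx, hxn⟩ := c.exists_x hv hvnc
  obtain ⟨g, hgx, hg, hgN, hgT, hgs, -⟩ := c.exists_g hv hvnc hxn hx (mem_cen_symm hxT)
  obtain ⟨z, hz, hzs, hznc, hzp, hzl⟩ := c.exists_fixed hv hvnc hg hgN
  obtain ⟨a, haT, k, hk, has, hap, hact⟩ :=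
    c.exists_move hv hvnc c' hno hg hgN hgT hz hzs hznc hzp hzl
  subst hs2
  have hga : g * a ∈ Subgroup.zpowers g ⊔ c.part hv hvnc 2 :=
    mul_mem (Subgroup.mem_sup_left (Subgroup.mem_zpowers g)) (Subgroup.mem_sup_right ⟨haT, has⟩)
  have hgaT : g * a ∉ cen v := fun h => hgT (by simpa using mul_mem h ((cen v).inv_mem haT))
  have hsq : (g * a) ^ 2 = g * a * g⁻¹ * g ^ 2 * a := by simp [pow_two, mul_assoc]
  have h2T : (g * a) ^ 2 ∈ cen v := by
    rw [hsq]
    exact mul_mem (mul_mem ((Subgroup.mem_normalizer_iff.1 hgN a).1 haT) (center_le_cen v hgs)) haT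
  have h2Z := c.l_pow hv hvnc (IsPPow.of_mem (c.sup_part hv hvnc hg hgN).1 hga) hgaT h2T
  set π := QuotientGroup.mk' (Subgroup.center G)
  have hg2 : π g * π g = 1 := by rw [← map_mul, ← pow_two]; exact center_map_eq_one.2 hgs
  have ha2 : π a * π a = 1 := by rw [← map_mul, ← pow_two]; exact center_map_eq_one.2 hap
  have hga2 : π g * π a * π g * π a = 1 := by
    have := center_map_eq_one.2 h2Z
    rwa [pow_two, map_mul, map_mul, ← mul_assoc] at this
  have hcommga : π a * π g = π g * π a := by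
    calc π a * π g = (π g * π g) * π a * π g * (π a * π a) := by rw [hg2, ha2, one_mul, mul_one]
      _ = π g * (π g * π a * π g * π a) * π a := by simp only [mul_assoc]
      _ = π g * π a := by rw [hga2, mul_one]
  refine hk ((pow_mem_center_iff c.sp hznc hzp).1 (center_map_eq_one.1 ?_))
  have h3 := center_map_eq_one.2 hact
  rw [map_mul, map_inv, mul_inv_eq_one, map_mul, map_mul, map_mul, map_inv, hcommga,
    mul_inv_cancel_right] at h3
  exact mul_eq_left.1 h3.symm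

end Ctx

/-- Two opposite transvections produce an inversion. -/
lemma exists_inversion {Q : Type*} [Group Q] {A B g z : Q} (hAz : A * z * A⁻¹ = z)
    (hAg : A * g * A⁻¹ = g * z) (hBg : B * g * B⁻¹ = g) (hBz : B * z * B⁻¹ = z * g⁻¹)
    (hgz : g * z = z * g) :
    ((A * B * A) * (A * B * A)) * g * ((A * B * A) * (A * B * A))⁻¹ = g⁻¹ ∧
    ((A * B * A) * (A * B * A)) * z * ((A * B * A) * (A * B * A))⁻¹ = z⁻¹ := by
  set w := A * B * A
  have hcA : ∀ x y : Q, A * (x * y) * A⁻¹ = (A * x * A⁻¹) * (A * y * A⁻¹) := fun x y => by group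
  have hcB : ∀ x y : Q, B * (x * y) * B⁻¹ = (B * x * B⁻¹) * (B * y * B⁻¹) := fun x y => by group
  have hw : ∀ x : Q, w * x * w⁻¹ = A * (B * (A * x * A⁻¹) * B⁻¹) * A⁻¹ := fun x => by
    simp only [w, mul_inv_rev]; group
  have hwg : w * g * w⁻¹ = z := by
    rw [hw, hAg, hcB, hBg, hBz, hcA, hcA, hAg, hAz, show A * g⁻¹ * A⁻¹ = (A * g * A⁻¹)⁻¹ by group,
      hAg, mul_inv_rev]
    rw [show g * z * (z * (z⁻¹ * g⁻¹)) = g * z * g⁻¹ by group, hgz, mul_inv_cancel_right]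
  have hwz : w * z * w⁻¹ = g⁻¹ := by
    rw [hw, hAz, hBz, hcA, hAz, show A * g⁻¹ * A⁻¹ = (A * g * A⁻¹)⁻¹ by group, hAg, mul_inv_rev]
    group
  constructor
  · rw [show w * w * g * (w * w)⁻¹ = w * (w * g * w⁻¹) * w⁻¹ by group, hwg, hwz]
  · rw [show w * w * z * (w * w)⁻¹ = w * (w * z * w⁻¹) * w⁻¹ by group, hwz,
      show w * g⁻¹ * w⁻¹ = (w * g * w⁻¹)⁻¹ by group, hwg]

lemma conj_zpow_transvection {Q : Type*} [Group Q] {a g z : Q} {k : ℤ} (haz : a * z * a⁻¹ = z)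
    (hag : a * g * a⁻¹ = g * z ^ k) (i : ℕ) : a ^ i * g * (a ^ i)⁻¹ = g * z ^ (k * i) := by
  induction i with
  | zero => simp
  | succ i ih =>
    have hazi : a * z ^ (k * i) * a⁻¹ = z ^ (k * i) := by rw [← conj_zpow, haz]
    rw [pow_succ', mul_inv_rev, show a * a ^ i * g * ((a ^ i)⁻¹ * a⁻¹) =
      a * (a ^ i * g * (a ^ i)⁻¹) * a⁻¹ by group, ih, show a * (g * z ^ (k * i)) * a⁻¹ =
      (a * g * a⁻¹) * (a * z ^ (k * i) * a⁻¹) by group, hag, hazi, mul_assoc, ← zpow_add]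
    push_cast; ring_nf

lemma exists_nat_mul_modEq {s : ℕ} (hs : s.Prime) {k : ℤ} (hk : ¬ (s : ℤ) ∣ k) (t : ℤ) :
    ∃ i : ℕ, (s : ℤ) ∣ k * i - t := by
  haveI := Fact.mk hs
  have h0 : (k : ZMod s) ≠ 0 := fun e => hk ((ZMod.intCast_zmod_eq_zero_iff_dvd _ s).1 e)
  refine ⟨((t : ZMod s) / (k : ZMod s)).val, (ZMod.intCast_zmod_eq_zero_iff_dvd _ s).1 ?_⟩
  push_cast
  rw [ZMod.natCast_zmod_val, mul_div_cancel₀ _ h0, sub_self]

namespace Ctx

variable (c : Ctx G n m p q s)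
include c

theorem line_or_two (c' : Ctx G m n q p r) {v : G} (hv : IsPPow s v)
    (hvnc : v ∉ Subgroup.center G) : (∃ z, Line (cen v) s z) ∨ p = 2 := by
  rw [or_iff_not_imp_right]
  intro hp2
  by_contra hno
  push Not at hno
  obtain ⟨x, hxT, hx, hxn⟩ := c.exists_x hv hvnc
  have hvx : v ∈ cen x := mem_cen_symm hxT
  have hTx := c.T_le hv hvnc hxT hx
  obtain ⟨g, hgx, hg, hgN, hgT, hgs, -⟩ := c.exists_g hv hvnc hxn hx hvx
  obtain ⟨z, hz, hzs, hznc, hzp, hzl⟩ := c.exists_fixed hv hvnc hg hgN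
  obtain ⟨a, haT, k, hk, -, -, hact⟩ :=
    c.exists_move hv hvnc c' hno hg hgN hgT hz hzs hznc hzp hzl
  have hgnc : g ∉ Subgroup.center G := fun h => hgT (center_le_cen v h)
  obtain ⟨d, hd, hdeq⟩ := c.conj_tori hv hvnc hx hxn hvx hg hgnc hgx
  have hno' : ∀ w, ¬ Line (cen g) s w := by
    intro w hw
    have h1 := c.line_conj hw d⁻¹
    rw [hdeq, ← cen_conj, show d⁻¹ * (d * v * d⁻¹) * d⁻¹⁻¹ = v by group] at h1
    exact hno _ h1
  have hzg : z * g * z⁻¹ * g⁻¹ ∈ Subgroup.center G := by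
    have := (Subgroup.center G).inv_mem hzl
    simpa [mul_assoc] using this
  have hzgT : z ∉ cen g := fun h => hgT (c.cen_of_s hv hvnc hz hzs hznc ▸ mem_cen_symm h)
  obtain ⟨b, hbT, k', hk', -, -, hbct⟩ := c.exists_move hg hgnc c' hno' hzs (mem_normalizer_cen hzg) hzgT
    (mem_cen_self g) hg hgnc hgs hzg
  have hgx' : cen g ≤ cen x := c.s_le_of_mem hg hgnc hgx hx
  set π := QuotientGroup.mk' (Subgroup.center G) with hπ
  have haz : π a * π z * (π a)⁻¹ = π z := by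
    rw [((show Commute a z from c.hD hv hvnc a haT z hz).map π).eq, mul_inv_cancel_right]
  have hbg : π b * π g * (π b)⁻¹ = π g := by
    rw [((show Commute b g from (mem_cen.1 hbT).symm).map π).eq, mul_inv_cancel_right]
  have hag : π a * π g * (π a)⁻¹ = π g * π z ^ k := by
    have := center_map_eq_one.2 hact
    rwa [map_mul, map_inv, mul_inv_eq_one, map_mul, map_mul, map_mul, map_inv, map_zpow] at this
  have hbz : π b * π z * (π b)⁻¹ = π z * π g ^ k' := by
    have := center_map_eq_one.2 hbct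
    rwa [map_mul, map_inv, mul_inv_eq_one, map_mul, map_mul, map_mul, map_inv, map_zpow] at this
  have hpow : ∀ {u : G}, u ∉ Subgroup.center G → u ^ s ∈ Subgroup.center G → ∀ {i j : ℤ},
      (s : ℤ) ∣ i - j → π u ^ i = π u ^ j := fun hu hus i j hd => by
    rw [← mul_inv_eq_one, ← zpow_neg, ← zpow_add, ← map_zpow, center_map_eq_one, ← sub_eq_add_neg]
    exact (pow_mem_center_iff c.sp hu hus).2 hd
  obtain ⟨i, hi⟩ := exists_nat_mul_modEq c.sp hk 1
  obtain ⟨j, hj⟩ := exists_nat_mul_modEq c.sp hk' (-1)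
  have hA : π (a ^ i) * π g * (π (a ^ i))⁻¹ = π g * π z := by
    rw [map_pow, conj_zpow_transvection haz hag i, hpow hznc hzp hi, zpow_one]
  have hB : π (b ^ j) * π z * (π (b ^ j))⁻¹ = π z * (π g)⁻¹ := by
    rw [map_pow, conj_zpow_transvection hbg hbz j, hpow hgnc hgs hj, zpow_neg_one]
  have hA' : π (a ^ i) * π z * (π (a ^ i))⁻¹ = π z := by
    rw [((show Commute a z from c.hD hv hvnc a haT z hz).pow_left i).map π |>.eq,
      mul_inv_cancel_right]
  have hB' : π (b ^ j) * π g * (π (b ^ j))⁻¹ = π g := by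
    rw [((show Commute b g from (mem_cen.1 hbT).symm).pow_left j).map π |>.eq, mul_inv_cancel_right]
  obtain ⟨-, hμz⟩ := exists_inversion hA' hA hB' hB (comm_mod_iff.1 hzl).eq
  set w := a ^ i * b ^ j * a ^ i with hw
  have hwx : w * w ∈ cen x :=
    mul_mem (mul_mem (mul_mem (pow_mem (hTx haT) i) (pow_mem (hgx' hbT) j)) (pow_mem (hTx haT) i))
      (mul_mem (mul_mem (pow_mem (hTx haT) i) (pow_mem (hgx' hbT) j)) (pow_mem (hTx haT) i))
  have hwz : π (w * w) * π z * (π (w * w))⁻¹ = (π z)⁻¹ := by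
    simpa only [hw, map_mul] using hμz
  obtain ⟨μ, μ', hμ, hμ', hμμ, -, hμ2, hμ'2⟩ := exists_split Nat.prime_two (w * w)
  have hμx : μ ∈ cen x := Subgroup.zpowers_le.2 hwx hμ
  -- the odd part centralizes `z` modulo the centre
  have hμ'z : Commute (π μ') (π z) := by
    have hc2 : Commute (π (w * w) ^ 2) (π z) := by
      have h1 : π (w * w) * (π z)⁻¹ * (π (w * w))⁻¹ = π z := by
        rw [show π (w * w) * (π z)⁻¹ * (π (w * w))⁻¹ = (π (w * w) * π z * (π (w * w))⁻¹)⁻¹ by group,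
          hwz, inv_inv]
      show π (w * w) ^ 2 * π z = π z * π (w * w) ^ 2
      calc π (w * w) ^ 2 * π z =
            π (w * w) * (π (w * w) * π z * (π (w * w))⁻¹) * (π (w * w))⁻¹ * π (w * w) ^ 2 := by
            rw [pow_two]; group
        _ = π z * π (w * w) ^ 2 := by rw [hwz, h1]
    obtain ⟨e, he⟩ := exists_pow_eq_self_of_coprime (x := μ') (n := 2) hμ'2.symm
    obtain ⟨f, hf⟩ := Subgroup.mem_zpowers_iff.1 hμ'
    rw [← he, map_pow, map_pow, ← hf, map_zpow, ← zpow_natCast (π (w * w) ^ f) 2, ← zpow_mul, mul_comm f,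
      zpow_mul, zpow_natCast]
    exact (hc2.zpow_left f).pow_left e
  have hμz' : π μ * π z * (π μ)⁻¹ = (π z)⁻¹ := by
    rw [← hwz, hμμ, map_mul, mul_inv_rev, show π μ * π μ' * π z * ((π μ')⁻¹ * (π μ)⁻¹) =
      π μ * (π μ' * π z * (π μ')⁻¹) * (π μ)⁻¹ by group, hμ'z.eq, mul_inv_cancel_right]
  have hs2 : s ≠ 2 := fun e => by
    obtain ⟨z', hz'⟩ := c.line_of_two hv hvnc c' e
    exact hno z' hz'
  have hTz : cen z = cen v := c.cen_of_s hv hvnc hz hzs hznc
  have hμN : μ ∈ Subgroup.normalizer ((cen v : Subgroup G) : Set G) := by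
    have hzz : μ * z * μ⁻¹ * z ∈ Subgroup.center G := center_map_eq_one.1 (by
      rw [map_mul, map_mul, map_mul, map_inv, hμz', inv_mul_cancel])
    have hconj : cen (μ * z * μ⁻¹) = cen v := by
      rw [show μ * z * μ⁻¹ = z⁻¹ * (μ * z * μ⁻¹ * z) by
          rw [Subgroup.mem_center_iff.1 hzz z⁻¹, mul_inv_cancel_right],
        cen_mul_center _ hzz, ← hTz]
      ext t
      rw [mem_cen, mem_cen]
      exact ⟨fun h => by simpa using (Commute.inv_left (show Commute z⁻¹ t from h)).eq,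
        fun h => ((show Commute z t from h).inv_left).eq⟩
    refine Subgroup.mem_normalizer_iff.2 fun t => ?_
    conv_rhs => rw [← hconj, cen_conj, Subgroup.mem_map_equiv, MulAut.conj_symm_apply]
    rw [show μ⁻¹ * (μ * t * μ⁻¹) * μ = t by group, hTz]
  have hμT : μ ∉ cen v := by
    intro h
    have h1 : Commute (π μ) (π z) := (show Commute μ z from c.hD hv hvnc μ h z hz).map π
    rw [h1.eq, mul_inv_cancel_right, eq_inv_iff_mul_eq_one, ← map_mul, center_map_eq_one,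
      ← pow_two] at hμz'
    have := (pow_mem_center_iff c.sp hznc hzp (k := (2 : ℤ))).1 (by exact_mod_cast hμz')
    exact hs2 ((Nat.prime_dvd_prime_iff_eq c.sp Nat.prime_two).1 (by exact_mod_cast this))
  by_cases h2m : 2 ∣ m
  · -- `2` would be a prime of the same kind as `s`
    have c2 : Ctx G n m p q 2 :=
      { c with
        sp := Nat.prime_two
        sm := h2m
        sT := fun t ht htnc => by
          rcases c.caseB.sizes t with e | e | e | e
          · exact absurd (sz_eq_one_iff.1 e) htnc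
          · exact absurd (c.uniq 2 t Nat.prime_two ht e).symm hp2
          · refine absurd h2m (c.caseB.not_dvd_m_of_dvd_n Nat.prime_two ?_)
            rw [c.uniq' 2 t Nat.prime_two ht e]; exact c.qn
          · exact e }
    obtain ⟨e, -, he, henc⟩ := c2.exists_s_cen x
    obtain ⟨z', hz'⟩ := c2.line_of_two he henc c' rfl
    exact c'.sp.not_dvd_one (c2.r_dvd he henc c' hz')
  · refine hμT (ppart_le (hD := c.hD hv hvnc) 2 (mem_of_normalizes Nat.prime_two
      (ppart_isPGroup 2) ((ppart_le 2).trans hTx) ?_ hμ2 hμx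
      (normalizer_le_normalizer_ppart 2 hμN)))
    refine le_trans (fac_cen_anti 2 ?_) (fac_le_ppart Nat.prime_two)
    rw [c.sT v hv hvnc, hxn, Nat.factorization_mul c.caseB.n_pos.ne'
      c.caseB.toQuad.symm.n_pos.ne', Finsupp.add_apply,
      Nat.factorization_eq_zero_of_not_dvd h2m, add_zero]

/-- Both kinds of extra primes are impossible. -/
theorem false_of_line (c' : Ctx G m n q p r) {v z : G} (hv : IsPPow s v)
    (hvnc : v ∉ Subgroup.center G) (hL : Line (cen v) s z) : False := by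
  haveI := Fact.mk c'.sp
  haveI := Fact.mk c.sp
  have hrd := c.r_dvd hv hvnc c' hL
  obtain ⟨hzT, hzs, hznc, hzp, hall⟩ := hL
  have hrs : r ≠ s := fun e => c.sn (e ▸ c'.sm)
  obtain ⟨x, hxT, hx, hxn⟩ := c.exists_x hv hvnc
  obtain ⟨g, hgx, hg, hgN, hgT, hgs, -⟩ := c.exists_g hv hvnc hxn hx (mem_cen_symm hxT)
  obtain ⟨ρ, hρ, hρr, hρnc⟩ := c'.exists_s_cen v
  have hTρ := c.cen_r hv hvnc c' hρ hρr hρnc
  obtain ⟨y, hyT, hy, hym⟩ := c'.exists_x hρr hρnc
  obtain ⟨h, -, hh, hhN, hhT, hhr, -⟩ := c'.exists_g hρr hρnc hym hy (mem_cen_symm hyT)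
  obtain ⟨ρ0, hρ0T, hρ0r, hρ0nc, hρ0p, hρ0h⟩ := c'.exists_fixed hρr hρnc hh hhN
  rw [hTρ] at hhN hhT hρ0T
  set π := QuotientGroup.mk' (Subgroup.center G) with hπ
  set N := Subgroup.normalizer ((cen v : Subgroup G) : Set G) with hN
  set K := N ⊓ (Subgroup.centralizer ((Subgroup.zpowers (π z) : Subgroup _) : Set _)).comap π
  have hmove : ∀ t : G, t ∈ K → t * z * t⁻¹ * z⁻¹ ∈ Subgroup.center G := fun t ht =>
    comm_mod_iff.2 (Subgroup.mem_centralizer_iff.1 ht.2 (π z) (Subgroup.mem_zpowers _)).symm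
  have hTN : cen v ≤ N := (cen v).le_normalizer
  have hgK : g ∈ K := by
    refine ⟨hgN, Subgroup.mem_centralizer_iff.2 fun t ht => ?_⟩
    have hfix : g * z * g⁻¹ * z⁻¹ ∈ Subgroup.center G := by
      by_contra hc
      have := Nat.le_of_dvd (by have := c.sp.two_le; omega) (dvd_pred_of_line c.sp c.sp hznc hzp hg
        (hall _ ((Subgroup.mem_normalizer_iff.1 hgN z).1 hzT) (hzs.conj g)
          (by rw [conj_pow]; exact (conj_mem_center_iff g).2 hzp)) hc)
      have := c.sp.two_le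
      omega
    obtain ⟨i, rfl⟩ := Subgroup.mem_zpowers_iff.1 ht
    exact ((comm_mod_iff.1 hfix).zpow_right i).symm.eq
  set T' := (cen v).subgroupOf N
  haveI : T'.Normal := Subgroup.normal_in_normalizer
  set P := c.part hv hvnc r with hP
  have hPN : N ≤ Subgroup.normalizer (P : Set G) := normalizer_le_normalizer_ppart r
  letI : CommGroup P := { (inferInstance : Group P) with
    mul_comm := fun a b => Subtype.ext (c.hD hv hvnc a a.2.1 b b.2.1) }
  set ρN : N →* MulAut P := P.normalizerMonoidHom.comp (Subgroup.inclusion hPN) with hρN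
  have hρval : ∀ (t : N) (u : P), ((ρN t u : P) : G) = (t : G) * u * (t : G)⁻¹ := fun _ _ => rfl
  set ρQ : N ⧸ T' →* MulAut P := QuotientGroup.lift T' ρN (fun t ht => by
    refine MonoidHom.mem_ker.2 ?_
    ext u
    rw [hρval, MulAut.one_apply, c.hD hv hvnc t (Subgroup.mem_subgroupOf.1 ht) u u.2.1,
      mul_inv_cancel_right]) with hρQ
  set Zp := (Subgroup.center G).subgroupOf P
  set E := (K.subgroupOf N).map (QuotientGroup.mk' T')
  -- the non-`s` parts of elements of `K` lie in the torus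
  have hKs : ∀ t ∈ K, ∀ ℓ : ℕ, ℓ.Prime → ℓ ≠ s → IsPPow ℓ t → t ∈ cen v := by
    intro t ht ℓ hℓ hℓs htℓ
    rw [← c.cen_of_s hv hvnc hzT hzs hznc]
    exact mem_cen_of_coprime (hmove t ht) (htℓ.coprime hℓ c.sp hℓs hzs)
  have hKsplit : ∀ t ∈ K, ∃ a ∈ K, IsPPow s a ∧ a⁻¹ * t ∈ cen v := by
    intro t ht
    obtain ⟨a, b, ha, hb, htab, -, has, hbs⟩ := exists_split c.sp t
    refine ⟨a, Subgroup.zpowers_le.2 ht ha, has, ?_⟩
    rw [htab, inv_mul_cancel_left]
    refine mem_of_primary fun ℓ hℓ b' hb' hbℓ => ?_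
    by_cases hℓs : ℓ = s
    · subst hℓs
      obtain ⟨k, hk⟩ := hbℓ.orderOf_eq hℓ
      have : b' = 1 := orderOf_eq_one_iff.1 (Nat.eq_one_of_dvd_coprimes
        (hbs.symm.pow_left k) (hk ▸ dvd_rfl) (orderOf_dvd_of_mem_zpowers hb'))
      rw [this]; exact one_mem _
    · exact hKs b' (Subgroup.zpowers_le.2 (Subgroup.zpowers_le.2 ht hb) hb') ℓ hℓ hℓs hbℓ
  have hEmem : ∀ e ∈ E, ∃ (a : G) (ha : a ∈ K), IsPPow s a ∧
      e = QuotientGroup.mk' T' ⟨a, ha.1⟩ := by
    rintro _ ⟨t, ht, rfl⟩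
    obtain ⟨a, ha, has, hat⟩ := hKsplit t (Subgroup.mem_subgroupOf.1 ht)
    exact ⟨a, ha, has, (QuotientGroup.eq.2 (Subgroup.mem_subgroupOf.2 hat)).symm⟩
  have hE : IsPGroup s E := fun e => by
    obtain ⟨a, ha, ⟨k, hk⟩, he⟩ := hEmem e e.2
    refine ⟨k, Subtype.ext ?_⟩
    rw [SubmonoidClass.coe_pow, he, ← map_pow, show (⟨a, ha.1⟩ : N) ^ s ^ k = 1 from
      Subtype.ext (by simpa using hk), map_one, Subgroup.coe_one]
  have hE1 : E ≠ ⊥ := fun hE => by
    refine hgT (Subgroup.mem_subgroupOf.1 ((QuotientGroup.eq_one_iff (⟨g, hgN⟩ : N)).1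
      (Subgroup.mem_bot.1 (hE ▸ ?_))))
    exact Subgroup.mem_map_of_mem _ (Subgroup.mem_subgroupOf.2 hgK)
  set hq := QuotientGroup.mk' T' ⟨h, hhN⟩ with hhq
  have hnorm : ∀ e ∈ E, hq * e * hq⁻¹ ∈ E := by
    rintro _ ⟨t, ht, rfl⟩
    rw [hhq, ← map_inv, ← map_mul, ← map_mul]
    refine Subgroup.mem_map_of_mem _ (Subgroup.mem_subgroupOf.2 ⟨N.mul_mem (N.mul_mem hhN t.2)
      (N.inv_mem hhN), Subgroup.mem_centralizer_iff.2 ?_⟩)
    obtain ⟨i, hi⟩ := hall _ ((Subgroup.mem_normalizer_iff.1 (N.inv_mem hhN) z).1 hzT)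
      (hzs.conj h⁻¹) (by rw [conj_pow]; exact (conj_mem_center_iff h⁻¹).2 hzp)
    have hi' : (π h)⁻¹ * π z * π h = π z ^ i := by
      have := center_map_eq_one.2 hi
      simp only [map_mul, map_inv, inv_inv, map_zpow, mul_inv_eq_one] at this
      exact this
    intro w hw
    obtain ⟨k, rfl⟩ := Subgroup.mem_zpowers_iff.1 hw
    have h1 := Subgroup.mem_centralizer_iff.1 (Subgroup.mem_subgroupOf.1 ht).2
      ((π z ^ i) ^ k) (Subgroup.zpow_mem _ (Subgroup.zpow_mem _ (Subgroup.mem_zpowers _) i) k)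
    have h2 : π z ^ k = π h * ((π z ^ i) ^ k) * (π h)⁻¹ := by
      rw [← hi', ← conj_zpow]; congr 1; group
    simp only [Subgroup.coe_mul, InvMemClass.coe_inv, map_mul, map_inv]
    rw [h2]
    calc π h * (π z ^ i) ^ k * (π h)⁻¹ * (π h * π (t : G) * (π h)⁻¹)
        = π h * ((π z ^ i) ^ k * π (t : G)) * (π h)⁻¹ := by group
      _ = π h * (π (t : G) * (π z ^ i) ^ k) * (π h)⁻¹ := by rw [h1]
      _ = π h * π (t : G) * (π h)⁻¹ * (π h * (π z ^ i) ^ k * (π h)⁻¹) := by group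
  by_cases hfree : ∀ e ∈ E, hq * e = e * hq → e = 1
  · -- the Frobenius case
    have key := eq_top_of_norms ρQ Zp E c'.sp c.sp hrs hE hE1
      (ppart_isPGroup (D := cen v) (hD := c.hD hv hvnc) r) hq ?_ hnorm hfree ?_ ?_ ?_
    · exact hρnc (Subgroup.mem_subgroupOf.1
        (key.symm ▸ Subgroup.mem_top (⟨ρ, hρ, hρr⟩ : P) : (⟨ρ, hρ, hρr⟩ : P) ∈ Zp))
    · rw [hhq, ← map_pow]
      exact (QuotientGroup.eq_one_iff _).2 (Subgroup.mem_subgroupOf.2
        (by simpa using center_le_cen v hhr))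
    · intro μ u hu
      obtain ⟨t, rfl⟩ := QuotientGroup.mk_surjective μ
      refine Subgroup.mem_subgroupOf.2 ?_
      show ((ρN t u : P) : G) ∈ _
      rw [hρval]
      exact (conj_mem_center_iff (t : G)).2 (Subgroup.mem_subgroupOf.1 hu)
    · intro e he hne u hu
      obtain ⟨a, ha, has, rfl⟩ := hEmem e he
      refine Subgroup.mem_subgroupOf.2 ?_
      by_contra hnc
      refine hne ((QuotientGroup.eq_one_iff _).2 (Subgroup.mem_subgroupOf.2 ?_))
      rw [← c.cen_r hv hvnc c' u.2.1 u.2.2 hnc]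
      refine mem_cen.2 ?_
      have h1 : a * (u : G) * a⁻¹ = u := congrArg Subtype.val hu
      exact (mul_inv_eq_iff_eq_mul.1 h1).symm
    · intro u
      refine Subgroup.mem_subgroupOf.2 ?_
      have hval : ∀ k : ℕ, ((∏ j ∈ Finset.range k, ρQ (hq ^ j) u : P) : G) * h ^ k =
          ((u : G) * h) ^ k := by
        intro k
        induction k with
        | zero => simp
        | succ k ih =>
          have hqk : ((ρQ (hq ^ k) u : P) : G) = h ^ k * u * (h ^ k)⁻¹ := by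
            rw [hhq, ← map_pow]
            exact hρval _ _
          rw [Finset.prod_range_succ, Subgroup.coe_mul, hqk, pow_succ, pow_succ (_ * h), ← ih]
          group
      have hsup := c'.sup_part hρr hρnc hh (hTρ.symm ▸ hhN)
      have hmem : (u : G) * h ∈ Subgroup.zpowers h ⊔ c'.part hρr hρnc r :=
        mul_mem (Subgroup.mem_sup_right ⟨hTρ.symm ▸ u.2.1, u.2.2⟩)
          (Subgroup.mem_sup_left (Subgroup.mem_zpowers h))
      have huhT : (u : G) * h ∉ cen v := fun hm => hhT (by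
        simpa using mul_mem ((cen v).inv_mem u.2.1) hm)
      have hv' := hval r
      have h3 : ((u : G) * h) ^ r ∈ Subgroup.center G := by
        refine c'.l_pow hρr hρnc (IsPPow.of_mem hsup.1 hmem) (hTρ.symm ▸ huhT) ?_
        rw [hTρ, ← hv']
        exact mul_mem (Subtype.coe_prop _ : (_ : G) ∈ P).1 (center_le_cen v hhr)
      rw [← hv'] at h3
      exact (Subgroup.mul_mem_cancel_right _ hhr).1 h3
  · -- a commuting pair
    push Not at hfree
    obtain ⟨e, he, hcomm, hne⟩ := hfree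
    obtain ⟨a, ha, has, rfl⟩ := hEmem e he
    have haT : a ∉ cen v := fun h => hne ((QuotientGroup.eq_one_iff _).2 (Subgroup.mem_subgroupOf.2 h))
    rw [hhq, ← map_mul, ← map_mul] at hcomm
    have ht := Subgroup.mem_subgroupOf.1 (QuotientGroup.eq.1 hcomm)
    simp only [Subgroup.coe_mul, InvMemClass.coe_inv] at ht
    have hρ'T : a * ρ0 * a⁻¹ ∈ cen v := (Subgroup.mem_normalizer_iff.1 ha.1 ρ0).1 hρ0T
    have hρ'h : h * (a * ρ0 * a⁻¹) * h⁻¹ * (a * ρ0 * a⁻¹)⁻¹ ∈ Subgroup.center G := by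
      have h1 : ((h * a)⁻¹ * (a * h)) * ρ0 = ρ0 * ((h * a)⁻¹ * (a * h)) :=
        c.hD hv hvnc _ ht ρ0 hρ0T
      have h2 : h * (a * ρ0 * a⁻¹) * h⁻¹ = a * (h * ρ0 * h⁻¹) * a⁻¹ := by
        calc h * (a * ρ0 * a⁻¹) * h⁻¹ = (h * a) * (ρ0 * ((h * a)⁻¹ * (a * h))) * (a * h)⁻¹ := by group
          _ = (h * a) * (((h * a)⁻¹ * (a * h)) * ρ0) * (a * h)⁻¹ := by rw [h1]
          _ = a * (h * ρ0 * h⁻¹) * a⁻¹ := by group
      rw [h2, show a * (h * ρ0 * h⁻¹) * a⁻¹ * (a * ρ0 * a⁻¹)⁻¹ =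
        a * (h * ρ0 * h⁻¹ * ρ0⁻¹) * a⁻¹ by group]
      exact (conj_mem_center_iff a).2 hρ0h
    obtain ⟨i, hi⟩ := c'.fixed_line hρr hρnc c hh (hTρ.symm ▸ hhT) (hTρ.symm ▸ hρ0T) hρ0r hρ0nc
      hρ0p hρ0h (hTρ.symm ▸ hρ'T) (hρ0r.conj a)
      (by rw [conj_pow]; exact (conj_mem_center_iff a).2 hρ0p) hρ'h
    have hsr := dvd_pred_of_line c'.sp c.sp hρ0nc hρ0p has ⟨i, hi⟩ fun hc => haT (by
      rw [← c.cen_r hv hvnc c' hρ0T hρ0r hρ0nc]
      exact mem_cen_of_coprime hc (has.coprime c.sp c'.sp hrs.symm hρ0r))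
    have h1 := c.sp.two_le
    have h2 := c'.sp.two_le
    have h3 := Nat.le_of_dvd (by omega) hrd
    have h4 := Nat.le_of_dvd (by omega) hsr
    omega

theorem false_of_both (c' : Ctx G m n q p r) : False := by
  obtain ⟨x, -⟩ := c.caseB.ex_n
  obtain ⟨v, -, hv, hvnc⟩ := c.exists_s_cen x
  rcases c.line_or_two c' hv hvnc with ⟨z, hz⟩ | hp2
  · exact c.false_of_line c' hv hvnc hz
  obtain ⟨ρ, -, hρ, hρnc⟩ := c'.exists_s_cen x
  rcases c'.line_or_two c hρ hρnc with ⟨z, hz⟩ | hq2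
  · exact c'.false_of_line c hρ hρnc hz
  exact c.pq (hp2.trans hq2.symm)

end Ctx

end Cfsg.Agent.ClassQuad
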