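import Cfsg.Agent.Lib.ClassSizeQuad.Basic
import Cfsg.Agent.S4134
import Cfsg.Agent.Lib.Techniques.CharP
import Cfsg.Agent.Lib.Solvable.Fitting
import Cfsg.Agent.Lib.Char.Burnside

/-!
# Class sizes `1`, `n`, `m`, `n m`: an element of size `n` whose prime does not divide `m`
-/

set_option autoImplicit false
set_option linter.style.haveILetI false
set_option linter.unusedSectionVars false

namespace Cfsg.Agent.ClassQuad

open scoped Pointwise

open Cfsg.Agent.ClassTriple

universe u

variable {G : Type u} [Group G] [Finite G] {n m : ℕ}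

lemma relIndex_eq_of_cover {H C K : Subgroup G} (hle : H ≤ C)
    (hc : ∀ c ∈ C, ∃ a ∈ H, ∃ k ∈ K, c = a * k) : K.relIndex H = K.relIndex C := by
  refine Nat.card_eq_of_bijective (Subgroup.quotientSubgroupOfEmbeddingOfLE K hle)
    ⟨(Subgroup.quotientSubgroupOfEmbeddingOfLE K hle).injective, ?_⟩
  intro q
  induction q using QuotientGroup.induction_on with
  | H c =>
    obtain ⟨a, ha, k, hk, e⟩ := hc c c.2
    refine ⟨QuotientGroup.mk ⟨a, ha⟩, QuotientGroup.eq.2 ?_⟩
    rw [Subgroup.mem_subgroupOf]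
    simpa [e] using hk

lemma coprime_of_ppow_of_ne {p q : ℕ} (hp : p.Prime) (hq : q.Prime) (hpq : p ≠ q) {a : G}
    (ha : IsPPow p a) : (orderOf a).Coprime q := by
  obtain ⟨i, hi⟩ := ha.orderOf_eq hp
  rw [hi]; exact ((Nat.coprime_primes hp hq).2 hpq).pow_left i

namespace Quad

variable (h : Quad G n m)
include h

lemma factor_of_not_dvd {p : ℕ} {x : G} (hp : p.Prime) (hx : IsPPow p x) (hxn : sz x = n)
    (hpm : ¬ p ∣ m) : Nonempty (Factor (cen x) p) :=
  exists_factor hp fun g hg hco hd => by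
    obtain ⟨i, hi⟩ := hx.orderOf_eq hp
    rcases h.rel_cases hxn hg (hi ▸ hco.symm.pow_left i) with e | e <;> rw [e] at hd
    · exact hp.not_dvd_one hd
    · exact hpm hd

theorem caseA {p q : ℕ} {x y : G} (hp : p.Prime) (hq : q.Prime) (hx : IsPPow p x) (hxn : sz x = n)
    (hpm : ¬ p ∣ m) (hy : IsPPow q y) (hym : sz y = m) : q ≠ p ∧ ∃ b, m = q ^ b := by
  haveI := Fact.mk hp
  obtain ⟨S, hS⟩ := exists_sylow_le (p := p) (H := cen y) (by show ¬ p ∣ sz y; rw [hym]; exact hpm)
  obtain ⟨c, hc⟩ := exists_conj_mem S hx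
  have hyC : y ∈ cen (c * x * c⁻¹) := mem_cen_symm (hS hc)
  have hx'n : sz (c * x * c⁻¹) = n := (sz_conj c x).trans hxn
  have hx'p : IsPPow p (c * x * c⁻¹) := hx.conj c
  clear hc hS hx hxn
  generalize c * x * c⁻¹ = x' at hyC hx'n hx'p
  obtain ⟨F⟩ := h.factor_of_not_dvd hp hx'p hx'n hpm
  have hync : y ∉ Subgroup.center G := h.symm.not_center_of_n hym
  have hle : ¬ cen x' ≤ cen y := fun hle =>
    h.not_m_dvd_n (hym ▸ hx'n ▸ sz_dvd hle)
  have hqp : q ≠ p := by
    rintro rfl
    obtain ⟨s, hs, hsm⟩ := Nat.exists_prime_and_dvd h.one_lt_m.ne'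
    haveI := Fact.mk hs
    have hsq : s ≠ q := fun e => hpm (e ▸ hsm)
    obtain ⟨T, hT⟩ := exists_sylow_le (p := s) (H := cen x')
      (by show ¬ s ∣ sz x'; rw [hx'n]; exact h.not_dvd_n_of_dvd_m hs hsm)
    refine not_dvd_sz T (a := y) (fun t ht => ?_) (hym ▸ hsm)
    exact F.cen_P (F.mem_P y hyC hy)
      (F.mem_H t (hT ht) (coprime_of_ppow_of_ne hs hq hsq (IsPPow.of_mem T.isPGroup' ht)))
  refine ⟨hqp, ?_⟩
  have hyH : y ∈ F.H := F.mem_H y hyC (coprime_of_ppow_of_ne hq hp hqp hy)
  have hsize : ∀ b : F.H, (Subgroup.centralizer ({b} : Set F.H)).index = 1 ∨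
      (Subgroup.centralizer ({b} : Set F.H)).index = m := by
    intro b
    rw [centralizer_subgroupOf]
    show (cen (b : G)).relIndex F.H = 1 ∨ (cen (b : G)).relIndex F.H = m
    rw [relIndex_eq_of_cover F.leH fun c hc => ?_]
    · obtain ⟨i, hi⟩ := hx'p.orderOf_eq hp
      exact h.rel_cases hx'n (F.leH b.2) (hi ▸ (F.cop b b.2).symm.pow_left i)
    · have hn : F.H ≤ Subgroup.normalizer (F.P : Set G) := fun a ha =>
        mem_normalizer_of_commute (fun z hz => mem_cen.2 (F.comm z hz a ha).symm)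
      have h1 : c ∈ ((F.P ⊔ F.H : Subgroup G) : Set G) := F.gen hc
      rw [Subgroup.coe_mul_of_right_le_normalizer_left _ _ hn] at h1
      obtain ⟨k, hk, a, ha, e⟩ := Set.mem_mul.1 h1
      exact ⟨a, ha, k, F.cen_H b.2 hk, e ▸ F.comm k hk a ha⟩
  have hyrel : (Subgroup.centralizer ({(⟨y, hyH⟩ : F.H)} : Set F.H)).index = m := by
    refine (hsize _).resolve_left fun e => hle fun c hc => ?_
    rw [centralizer_subgroupOf, Subgroup.index_eq_one, Subgroup.subgroupOf_eq_top] at e
    exact (sup_le (F.cen_H hyH) e) (F.gen hc)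
  obtain ⟨r, hr, a, hma, hstr⟩ := S4134.result (G := F.H) m h.one_lt_m hsize ⟨_, hyrel⟩
  refine ⟨a, ?_⟩
  by_cases hqr : q = r
  · rw [hqr]; exact hma
  exfalso
  obtain ⟨R⟩ := (inferInstance : Nonempty (Sylow r F.H))
  obtain ⟨hRn, ⟨N, hNn, hcompl, hNab, hNR⟩, -⟩ := hstr R
  haveI := hNn
  have hyq : IsPPow q (⟨y, hyH⟩ : F.H) := hy.imp fun k hk => Subtype.ext (by simpa using hk)
  have hyN : (⟨y, hyH⟩ : F.H) ∈ N := by
    have h1 : Nat.card (F.H ⧸ N) = Nat.card (R : Subgroup F.H) := by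
      rw [← Subgroup.index_eq_card, hcompl.symm.index_eq_card]
    obtain ⟨i, hi⟩ := IsPGroup.iff_card.1 R.isPGroup'
    have h2 : IsPPow r (QuotientGroup.mk' N ⟨y, hyH⟩) :=
      IsPPow.of_mem (IsPGroup.of_card (n := i) (show Nat.card (⊤ : Subgroup (F.H ⧸ N)) = r ^ i by
        rw [Subgroup.card_top, h1, hi])) (Subgroup.mem_top _)
    have h3 : IsPPow q (QuotientGroup.mk' N ⟨y, hyH⟩) := hyq.imp fun k hk => by
      rw [← map_pow, hk, map_one]
    exact (QuotientGroup.eq_one_iff _).1 (h3.eq_one_of_ne hq hr.out hqr h2)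
  have hcen : (⟨y, hyH⟩ : F.H) ∈ Subgroup.center F.H := by
    rw [Subgroup.mem_center_iff]
    intro g
    have hg : g ∈ ((N : Set F.H) * ((R : Subgroup F.H) : Set F.H)) := by
      rw [hcompl.mul_eq]; exact Set.mem_univ _
    obtain ⟨a', ha', r', hr', rfl⟩ := Set.mem_mul.1 hg
    have e1 : (⟨y, hyH⟩ : F.H) * a' = a' * ⟨y, hyH⟩ :=
      congrArg Subtype.val (hNab.is_comm.comm (⟨_, hyN⟩ : N) ⟨a', ha'⟩)
    have e2 := hNR _ hyN r' hr'
    rw [← mul_assoc, e1, mul_assoc, mul_assoc, e2]
  rw [Subgroup.centralizer_eq_top_iff_subset.2 (Set.singleton_subset_iff.2 hcen), Subgroup.index_top]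
    at hyrel
  exact h.one_lt_m.ne hyrel

/-- In case A the `p`-elements centralize the `q`-core. -/
theorem centralize_core {p q : ℕ} {y : G} (hp : p.Prime) (hq : q.Prime) (hpq : p ≠ q)
    (hy : IsPPow q y) (hym : sz y = m) (hpm : ¬ p ∣ m) (hqn : ¬ q ∣ n) {v : G} (hv : IsPPow p v) :
    ∀ r ∈ Cfsg.pCore q G, v * r = r * v := by
  haveI := Fact.mk hp
  haveI := Fact.mk hq
  obtain ⟨F⟩ := h.symm.factor_of_not_dvd hq hy hym hqn
  obtain ⟨S, hS⟩ := exists_sylow_le (p := p) (H := cen y) (by show ¬ p ∣ sz y; rw [hym]; exact hpm)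
  obtain ⟨c, hc⟩ := exists_conj_mem S hv
  set v' := c * v * c⁻¹ with hv'
  have hv'H : v' ∈ F.H := F.mem_H _ (hS hc) (coprime_of_ppow_of_ne hp hq hpq (hv.conj c))
  haveI hn := FittingCores.pCore_normal (G := G) q
  have key := CharP.pxq (p := q) (R := Cfsg.pCore q G) (U := Subgroup.zpowers y) (x := v')
    (FittingCores.pCore_isPGroup q) (hy.isPGroup_zpowers hq)
    Subgroup.le_normalizer_of_normal (coprime_of_ppow_of_ne hp hq hpq (hv.conj c))
    (Subgroup.le_normalizer_of_normal (Subgroup.mem_top v'))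
    (fun u hu => by
      obtain ⟨k, rfl⟩ := Subgroup.mem_zpowers_iff.1 hu
      exact ((show Commute y v' from mem_cen.1 (hS hc)).zpow_left k).symm.eq)
    (fun r hr hcomm => by
      have hrC : r ∈ cen y := mem_cen.2 (hcomm y (Subgroup.mem_zpowers y)).symm
      exact (F.comm r (F.mem_P r hrC (IsPPow.of_mem (FittingCores.pCore_isPGroup q) hr)) v' hv'H).symm)
  intro r hr
  have h1 := key (c * r * c⁻¹) (hn.conj_mem r hr c)
  rw [hv'] at h1
  calc v * r = c⁻¹ * ((c * v * c⁻¹) * (c * r * c⁻¹)) * c := by group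
    _ = c⁻¹ * ((c * r * c⁻¹) * (c * v * c⁻¹)) * c := by rw [h1]
    _ = r * v := by group

omit h in
lemma mem_center_sup_of_two {p q : ℕ} (hother : ∀ r : ℕ, r.Prime → r ≠ p → r ≠ q → ∀ a : G,
    IsPPow r a → a ∈ Subgroup.center G) {K : Subgroup G}
    (hK : ∀ r : ℕ, r.Prime → (r = p ∨ r = q) → ∀ a : G, IsPPow r a → a ∈ K)
    (hZ : Subgroup.center G ≤ K) : K = ⊤ := by
  rw [eq_top_iff]
  intro g _
  refine mem_of_primary fun r hr a _ har => ?_
  by_cases h1 : r = p ∨ r = q
  · exact hK r hr h1 a har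
  · push Not at h1
    exact hZ (hother r hr h1.1 h1.2 a har)

omit h in
lemma solvable_of_two {p q : ℕ} (hp : p.Prime) (hq : q.Prime) (hpq : p ≠ q)
    (hother : ∀ r : ℕ, r.Prime → r ≠ p → r ≠ q → ∀ a : G,
      IsPPow r a → a ∈ Subgroup.center G) : Group.IsSolvable G := by
  haveI : Group.IsSolvable (Subgroup.center G) := Group.isSolvable_of_comm fun a b =>
    Subtype.ext (Subgroup.mem_center_iff.1 b.2 a)
  haveI : Group.IsSolvable (G ⧸ Subgroup.center G) := by
    refine Char.isSolvable_of_card_pq p q hp hq _ _ rfl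
      ⟨(Nat.card (G ⧸ Subgroup.center G)).factorization p,
        (Nat.card (G ⧸ Subgroup.center G)).factorization q, ?_⟩
    have hne : Nat.card (G ⧸ Subgroup.center G) ≠ 0 := Nat.card_pos.ne'
    refine Nat.eq_of_factorization_eq hne
      (mul_ne_zero (pow_ne_zero _ hp.ne_zero) (pow_ne_zero _ hq.ne_zero)) fun r => ?_
    rw [Nat.factorization_mul (pow_ne_zero _ hp.ne_zero) (pow_ne_zero _ hq.ne_zero),
      hp.factorization_pow, hq.factorization_pow, Finsupp.add_apply]
    by_cases h1 : r = p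
    · subst h1; simp [hpq.symm]
    by_cases h2 : r = q
    · subst h2; simp [hpq]
    rw [Finsupp.single_eq_of_ne h1, Finsupp.single_eq_of_ne h2, add_zero]
    by_contra hc
    have hr : r.Prime := Nat.prime_of_mem_primeFactors
      (Nat.support_factorization _ ▸ Finsupp.mem_support_iff.2 hc)
    have hfi := fac_index r (Subgroup.center G)
    rw [Subgroup.index_eq_card] at hfi
    obtain ⟨a, -, har, hanc⟩ := exists_ppow_not_center hr (H := (⊤ : Subgroup G))
      (by rw [Subgroup.card_top]; omega)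
    exact hanc (hother r hr h1 h2 a har)
  exact Group.isSolvable_of_ker_le_range (Subgroup.center G).subtype
    (QuotientGroup.mk' (Subgroup.center G)) (by rw [QuotientGroup.ker_mk', Subgroup.range_subtype])

omit h in
theorem ppow_mem_fitting [Group.IsSolvable G] {p q : ℕ} (hp : p.Prime) (hq : q.Prime)
    (hother : ∀ r : ℕ, r.Prime → r ≠ p → r ≠ q → ∀ a : G, IsPPow r a → a ∈ Subgroup.center G)
    (hvO : ∀ v : G, IsPPow p v → ∀ r ∈ Cfsg.pCore q G, v * r = r * v)
    (hwO : ∀ w : G, IsPPow q w → ∀ r ∈ Cfsg.pCore p G, w * r = r * w) {w : G} (hw : IsPPow q w) :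
    w ∈ Cfsg.fittingSubgroup G := by
  haveI := Fact.mk hp
  haveI hn := FittingCores.pCore_normal (G := G) p
  set K := Subgroup.centralizer ((Cfsg.pCore p G : Subgroup G) : Set G) with hKdef
  haveI hKn : K.Normal := by rw [hKdef]; infer_instance
  have hwK : ∀ w : G, IsPPow q w → w ∈ K := fun w hw => Subgroup.mem_centralizer_iff.2
    fun r hr => (hwO w hw r hr).symm
  have hcent : ∀ r : ℕ, r.Prime → r ≠ q → ∀ a ∈ K, IsPPow r a → ∀ k ∈ K, k * a = a * k := by
    intro r hr hrq a haK har k hk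
    by_cases hrp : r = p
    · subst hrp
      have haF : a ∈ Cfsg.fittingSubgroup G := by
        refine FittingCores.centralizer_fitting_le ?_
        have hle : Cfsg.fittingSubgroup G ≤ Subgroup.centralizer ({a} : Set G) := by
          rw [FittingCores.fitting_eq_iSup_pCore]
          refine iSup_le fun ℓ z hz => Subgroup.mem_centralizer_singleton_iff.2 ?_
          by_cases h1 : (ℓ : ℕ) = r
          · rw [h1] at hz; exact Subgroup.mem_centralizer_iff.1 haK z hz
          by_cases h2 : (ℓ : ℕ) = q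
          · rw [h2] at hz; exact (hvO a har z hz).symm
          haveI := Fact.mk ℓ.2
          exact (Subgroup.mem_center_iff.1
            (hother ℓ ℓ.2 h1 h2 z (IsPPow.of_mem (FittingCores.pCore_isPGroup _) hz)) a).symm
        exact Subgroup.mem_centralizer_iff.2 fun z hz =>
          Subgroup.mem_centralizer_singleton_iff.1 (hle hz)
      haveI := FittingCores.fitting_normal (G := G)
      haveI := FittingCores.fitting_nilpotent (G := G)
      have har' : IsPPow r (⟨a, haF⟩ : Cfsg.fittingSubgroup G) :=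
        har.imp fun i hi => Subtype.ext (by simpa using hi)
      obtain ⟨S, hS⟩ := (har'.isPGroup_zpowers hr).exists_le_sylow
      have haO : a ∈ Cfsg.pCore r G := FittingCores.sylow_le_pCore_of_nilpotent inferInstance r S
        ⟨⟨a, haF⟩, hS (Subgroup.mem_zpowers _), rfl⟩
      exact (Subgroup.mem_centralizer_iff.1 hk a haO).symm
    · exact Subgroup.mem_center_iff.1 (hother r hr hrp hrq a har) k
  haveI : Group.IsNilpotent K := by
    refine Group.of_quotient_center_nilpotent ?_
    haveI := Fact.mk hq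
    refine IsPGroup.isNilpotent (p := q) fun z => ?_
    induction z using QuotientGroup.induction_on with
    | H k =>
      refine ⟨(orderOf (k : G)).factorization q, ?_⟩
      rw [← QuotientGroup.mk_pow, QuotientGroup.eq_one_iff, Subgroup.mem_center_iff]
      intro k'
      refine Subtype.ext ?_
      have hmem : (k : G) ^ q ^ (orderOf (k : G)).factorization q ∈
          Subgroup.centralizer ({(k' : G)} : Set G) := by
        refine mem_of_primary fun r hr a ha har => ?_
        by_cases hrq : r = q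
        · subst hrq
          have hd : orderOf a ∣ orderOf ((k : G) ^ r ^ (orderOf (k : G)).factorization r) :=
            orderOf_dvd_of_mem_zpowers ha
          rw [orderOf_pow_of_dvd (pow_ne_zero _ hr.ne_zero) (Nat.ordProj_dvd _ _)] at hd
          obtain ⟨i, hi⟩ := har.orderOf_eq hr
          have h1 : a = 1 := orderOf_eq_one_iff.1 (Nat.eq_one_of_dvd_coprimes
            ((Nat.coprime_ordCompl hr (orderOf_pos (k : G)).ne').pow_left i) (hi ▸ dvd_rfl) hd)
          rw [h1]; exact one_mem _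
        · exact Subgroup.mem_centralizer_singleton_iff.2 (hcent r hr hrq a
            (Subgroup.zpowers_le.2 (pow_mem k.2 _) ha) har k' k'.2).symm
      simpa using (Subgroup.mem_centralizer_singleton_iff.1 hmem).symm
  exact FittingCores.le_fitting inferInstance inferInstance (hwK w hw)

theorem nilpotent_of_caseA {p q : ℕ} {x y : G} (hp : p.Prime) (hq : q.Prime) (hpq : p ≠ q)
    (hx : IsPPow p x) (hxn : sz x = n) (hy : IsPPow q y) (hym : sz y = m)
    {a b : ℕ} (hna : n = p ^ a) (hmb : m = q ^ b) : Group.IsNilpotent G := by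
  have hb0 : b ≠ 0 := fun e => by subst e; simp at hmb; exact h.one_lt_m.ne' hmb
  have ha0 : a ≠ 0 := fun e => by subst e; simp at hna; exact h.one_lt_n.ne' hna
  have hother : ∀ r : ℕ, r.Prime → r ≠ p → r ≠ q → ∀ g : G, IsPPow r g →
      g ∈ Subgroup.center G := fun r hr h1 h2 g hg => by
    haveI := Fact.mk hr
    exact h.central_of_not_dvd
      (fun hd => h1 ((Nat.prime_dvd_prime_iff_eq hr hp).1 (hr.dvd_of_dvd_pow (hna ▸ hd))))
      (fun hd => h2 ((Nat.prime_dvd_prime_iff_eq hr hq).1 (hr.dvd_of_dvd_pow (hmb ▸ hd)))) hg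
  have hpm : ¬ p ∣ m := h.not_dvd_m_of_dvd_n hp (hna ▸ dvd_pow_self p ha0)
  have hqn : ¬ q ∣ n := h.not_dvd_n_of_dvd_m hq (hmb ▸ dvd_pow_self q hb0)
  haveI := solvable_of_two hp hq hpq hother
  have hv : ∀ v : G, IsPPow p v → ∀ r ∈ Cfsg.pCore q G, v * r = r * v := fun v hv =>
    h.centralize_core hp hq hpq hy hym hpm hqn hv
  have hw : ∀ v : G, IsPPow q v → ∀ r ∈ Cfsg.pCore p G, v * r = r * v := fun v hv =>
    h.symm.centralize_core hq hp hpq.symm hx hxn hqn hpm hv
  haveI := FittingCores.fitting_nilpotent (G := G)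
  haveI := FittingCores.fitting_normal (G := G)
  haveI : Group.IsNilpotent (Subgroup.center G) :=
    letI : CommGroup (Subgroup.center G) := { (inferInstance : Group (Subgroup.center G)) with
      mul_comm := fun a b => Subtype.ext (Subgroup.mem_center_iff.1 b.2 a) }
    CommGroup.isNilpotent
  have htop : Cfsg.fittingSubgroup G = ⊤ := mem_center_sup_of_two hother (fun r hr hpq' g hg => by
    rcases hpq' with rfl | rfl
    · exact ppow_mem_fitting hq hr (fun r hr h1 h2 => hother r hr h2 h1) hw hv hg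
    · exact ppow_mem_fitting hp hr hother hv hw hg)
    (FittingCores.le_fitting inferInstance inferInstance)
  exact nilpotent_of_mulEquiv (((MulEquiv.subgroupCongr htop).trans Subgroup.topEquiv))

end Quad

end Cfsg.Agent.ClassQuad
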