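import Cfsg.Agent.Lib.ClassSizeQuad.Basic
import Cfsg.Agent.Lib.Solvable.Coprime
import Mathlib.FieldTheory.Finite.Basic

/-!
# Generic tools for groups with class sizes `1`, `n`, `m`, `n m`
-/

set_option autoImplicit false
set_option linter.style.haveILetI false
set_option linter.unusedSectionVars false

namespace Cfsg.Agent.ClassQuad

open Cfsg.Agent.ClassTriple

universe u

variable {G : Type u} [Group G] [Finite G]

lemma central_of_fac_le {r : ℕ} (hr : r.Prime) {H : Subgroup G} (hZ : Subgroup.center G ≤ H)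
    (hf : (Nat.card H).factorization r ≤ (Nat.card (Subgroup.center G)).factorization r) {a : G}
    (haH : a ∈ H) (ha : IsPPow r a) : a ∈ Subgroup.center G := by
  by_contra hc
  have := fac_center_lt hr hZ haH ha hc
  omega

lemma fac_cen_anti (r : ℕ) {a b : G} (h : (sz a).factorization r ≤ (sz b).factorization r) :
    (Nat.card (cen b)).factorization r ≤ (Nat.card (cen a)).factorization r := by
  have h1 : (Nat.card (cen a)).factorization r + (sz a).factorization r =
      (Nat.card G).factorization r := fac_index r (cen a)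
  have h2 : (Nat.card (cen b)).factorization r + (sz b).factorization r =
      (Nat.card G).factorization r := fac_index r (cen b)
  omega

/-- The `p`-part and the `p'`-part of an element. -/
lemma exists_split {p : ℕ} (hp : p.Prime) (g : G) : ∃ a b : G, a ∈ Subgroup.zpowers g ∧
    b ∈ Subgroup.zpowers g ∧ g = a * b ∧ Commute a b ∧ IsPPow p a ∧ (orderOf b).Coprime p := by
  set N := orderOf g
  have hN : N ≠ 0 := (orderOf_pos g).ne'
  have hco : (p ^ N.factorization p).Coprime (N / p ^ N.factorization p) :=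
    (Nat.coprime_ordCompl hp hN).pow_left _
  obtain ⟨k, hk1, hk2⟩ := Nat.chineseRemainder hco 1 0
  obtain ⟨l, hl1, hl2⟩ := Nat.chineseRemainder hco 0 1
  have hmul : p ^ N.factorization p * (N / p ^ N.factorization p) = N :=
    Nat.ordProj_mul_ordCompl_eq_self N p
  refine ⟨g ^ k, g ^ l, Subgroup.pow_mem _ (Subgroup.mem_zpowers g) k,
    Subgroup.pow_mem _ (Subgroup.mem_zpowers g) l, ?_,
    ((Commute.refl g).pow_left k).pow_right l, ⟨N.factorization p, ?_⟩, ?_⟩
  · rw [← pow_add]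
    conv_lhs => rw [← pow_one g]
    refine pow_eq_pow_iff_modEq.2 ?_
    have h := (Nat.modEq_and_modEq_iff_modEq_mul hco).1
      ⟨by simpa using hk1.add hl1, (by simpa using hk2.add hl2 : k + l ≡ 1 [MOD _])⟩
    rw [hmul] at h
    exact h.symm
  · rw [← pow_mul]
    refine orderOf_dvd_iff_pow_eq_one.1 ?_
    show N ∣ _
    conv_lhs => rw [← hmul]
    rw [mul_comm k]
    exact Nat.mul_dvd_mul_left _ (Nat.modEq_zero_iff_dvd.1 hk2)
  · obtain ⟨l', rfl⟩ := Nat.modEq_zero_iff_dvd.1 hl1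
    refine Nat.Coprime.coprime_dvd_left ?_ (Nat.coprime_ordCompl hp hN).symm
    refine orderOf_dvd_of_pow_eq_one ?_
    rw [← pow_mul, mul_right_comm, hmul, pow_mul, pow_orderOf_eq_one, one_pow]

/-- The last power outside a subgroup. -/
lemma exists_last_pow {p : ℕ} {H : Subgroup G} {a : G} (ha : IsPPow p a) (haH : a ∉ H) :
    ∃ i : ℕ, a ^ p ^ i ∉ H ∧ (a ^ p ^ i) ^ p ∈ H := by
  classical
  obtain ⟨k, hk⟩ := ha
  have hex : ∃ j, a ^ p ^ j ∈ H := ⟨k, by rw [hk]; exact one_mem H⟩
  have h0 : Nat.find hex ≠ 0 := fun e => by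
    have := Nat.find_spec hex; rw [e, pow_zero, pow_one] at this; exact haH this
  obtain ⟨i, hi⟩ := Nat.exists_eq_succ_of_ne_zero h0
  refine ⟨i, Nat.find_min hex (by omega), ?_⟩
  rw [← pow_mul, ← pow_succ]
  have := Nat.find_spec hex
  rwa [hi] at this

lemma pow_mem_center_iff {p : ℕ} (hp : p.Prime) {z : G} (hz : z ∉ Subgroup.center G)
    (hzp : z ^ p ∈ Subgroup.center G) {k : ℤ} :
    z ^ k ∈ Subgroup.center G ↔ (p : ℤ) ∣ k := by
  constructor
  · intro hk
    by_contra hd
    obtain ⟨u, v, huv⟩ : IsCoprime (p : ℤ) k :=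
      (Nat.prime_iff_prime_int.1 hp).coprime_iff_not_dvd.2 hd
    apply hz
    have : z = (z ^ p) ^ u * (z ^ k) ^ v := by
      rw [← zpow_natCast, ← zpow_mul, ← zpow_mul, ← zpow_add, mul_comm (p : ℤ), mul_comm k, huv,
        zpow_one]
    rw [this]
    exact mul_mem (zpow_mem hzp u) (zpow_mem hk v)
  · rintro ⟨c, rfl⟩
    rw [zpow_mul, zpow_natCast]
    exact zpow_mem hzp c

/-- Elements of coprime order that move a cyclic section of prime order. -/
theorem dvd_pred_of_line {s r : ℕ} (hs : s.Prime) (hr : r.Prime) {z h : G}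
    (hz : z ∉ Subgroup.center G) (hzs : z ^ s ∈ Subgroup.center G) (hh : IsPPow r h)
    (hline : ∃ i : ℤ, (h * z * h⁻¹) * (z ^ i)⁻¹ ∈ Subgroup.center G)
    (hmove : h * z * h⁻¹ * z⁻¹ ∉ Subgroup.center G) : r ∣ s - 1 := by
  haveI := Fact.mk hs
  set π := QuotientGroup.mk' (Subgroup.center G) with hπ
  have hker : ∀ a b : G, π a = π b ↔ a * b⁻¹ ∈ Subgroup.center G := fun a b => by
    rw [← mul_inv_eq_one, ← map_inv, ← map_mul]
    exact QuotientGroup.eq_one_iff _
  obtain ⟨i, hi⟩ := hline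
  have h1 : π h * π z * (π h)⁻¹ = π z ^ i := by
    rw [← map_inv, ← map_mul, ← map_mul, ← map_zpow]; exact (hker _ _).2 hi
  have hk : ∀ k : ℕ, π h ^ k * π z * (π h ^ k)⁻¹ = π z ^ (i ^ k) := by
    intro k
    induction k with
    | zero => simp
    | succ k ih =>
      rw [pow_succ' (π h), mul_inv_rev, show π h * π h ^ k * π z * ((π h ^ k)⁻¹ * (π h)⁻¹) =
        π h * (π h ^ k * π z * (π h ^ k)⁻¹) * (π h)⁻¹ by group, ih, ← conj_zpow, h1, ← zpow_mul,
        pow_succ' i k]
  obtain ⟨e, he⟩ := hh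
  have h2 : ((i : ZMod s)) ^ r ^ e = 1 := by
    have h3 := hk (r ^ e)
    rw [← map_pow, he, map_one, one_mul, inv_one, mul_one, ← map_zpow, eq_comm, hker] at h3
    have h4 : z ^ (i ^ r ^ e - 1) ∈ Subgroup.center G := by
      rw [zpow_sub, zpow_one]; exact h3
    have h5 := (ZMod.intCast_zmod_eq_zero_iff_dvd _ s).2 ((pow_mem_center_iff hs hz hzs).1 h4)
    rwa [Int.cast_sub, Int.cast_pow, Int.cast_one, sub_eq_zero] at h5
  have h0 : (i : ZMod s) ≠ 0 := fun e0 => by
    rw [e0, zero_pow (pow_ne_zero _ hr.ne_zero)] at h2; exact zero_ne_one h2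
  have hi1 : (i : ZMod s) ≠ 1 := fun e1 => by
    refine hmove ((hker _ _).1 ?_)
    rw [map_mul, map_mul, map_inv, h1]
    have h5 : π z ^ (i - 1) = 1 := by
      rw [← map_zpow]
      exact (QuotientGroup.eq_one_iff _).2 ((pow_mem_center_iff hs hz hzs).2
        ((ZMod.intCast_zmod_eq_zero_iff_dvd _ s).1 (by push_cast; rw [e1, sub_self])))
    rwa [zpow_sub, zpow_one, mul_inv_eq_one] at h5
  obtain ⟨j, -, hj⟩ := (Nat.dvd_prime_pow hr).1 (orderOf_dvd_of_pow_eq_one h2)
  rcases j with _ | j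
  · exact absurd (orderOf_eq_one_iff.1 (by simpa using hj)) hi1
  · exact ((dvd_pow_self r j.succ_ne_zero).trans hj.symm.dvd).trans
      (ZMod.orderOf_dvd_card_sub_one h0)

/-- A subgroup normalized by two elements generating a noncyclic group of order `s ^ 2` modulo
the centre is covered by the centralizers of the nontrivial products. -/
theorem covering {s : ℕ} (hs : s.Prime) {S M X : Subgroup G} (hS : IsPGroup s S) {a b : G}
    (haS : a ∈ S) (hbS : b ∈ S) (has : a ^ s ∈ Subgroup.center G) (hbs : b ^ s ∈ Subgroup.center G)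
    (hab : a * b * a⁻¹ * b⁻¹ ∈ Subgroup.center G) (hanc : a ∉ Subgroup.center G)
    (hind : ∀ i : ℤ, b * (a ^ i)⁻¹ ∉ Subgroup.center G)
    (haM : a ∈ Subgroup.normalizer (M : Set G)) (hbM : b ∈ Subgroup.normalizer (M : Set G))
    (hcop : (Nat.card M).Coprime s) (hZ : Subgroup.center G ≤ X)
    (hX : ∀ e ∈ Subgroup.closure {a, b}, IsPPow s e → e ∉ Subgroup.center G → M ⊓ cen e ≤ X) :
    M ≤ X := by
  haveI := Fact.mk hs
  set π := QuotientGroup.mk' (Subgroup.center G) with hπ
  have hker : ∀ a b : G, π a = π b ↔ a * b⁻¹ ∈ Subgroup.center G := fun a b => by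
    rw [← mul_inv_eq_one, ← map_inv, ← map_mul]
    exact QuotientGroup.eq_one_iff _
  set A := (Subgroup.closure {a, b}).map π with hA
  have hA' : A = Subgroup.closure {π a, π b} := by
    rw [hA, MonoidHom.map_closure, Set.image_pair]
  have hcomm : π a * π b = π b * π a := by
    rw [← map_mul, ← map_mul, hker, mul_inv_rev, ← mul_assoc]; exact hab
  haveI hAc : IsMulCommutative A := by
    rw [hA']
    refine Subgroup.isMulCommutative_closure fun u hu v hv => ?_
    rcases hu with rfl | rfl <;> rcases hv with rfl | rfl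
    · rfl
    · exact hcomm
    · exact hcomm.symm
    · rfl
  have hexp : ∀ t ∈ A, t ^ s = 1 := by
    intro t ht
    rw [hA'] at ht
    induction ht using Subgroup.closure_induction with
    | mem t ht =>
      rcases ht with rfl | rfl
      · rw [← map_pow]; exact (QuotientGroup.eq_one_iff _).2 has
      · rw [← map_pow]; exact (QuotientGroup.eq_one_iff _).2 hbs
    | one => exact one_pow _
    | mul u v hu hv ihu ihv =>
      have : Commute u v := congrArg Subtype.val
        (hAc.is_comm.comm (⟨u, hA' ▸ hu⟩ : A) ⟨v, hA' ▸ hv⟩)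
      rw [this.mul_pow, ihu, ihv, one_mul]
    | inv u hu ihu => rw [inv_pow, ihu, inv_one]
  have hncyc : ¬ IsCyclic A := by
    intro hc
    obtain ⟨⟨c, hcA⟩, hgen⟩ := hc.exists_generator
    have hone : ∀ t ∈ A, t ∈ Subgroup.zpowers c := fun t ht => by
      obtain ⟨k, hk⟩ := Subgroup.mem_zpowers_iff.1 (hgen ⟨t, ht⟩)
      exact Subgroup.mem_zpowers_iff.2 ⟨k, by simpa using congrArg Subtype.val hk⟩
    have haA : π a ∈ A := hA' ▸ Subgroup.subset_closure (by simp)
    have hbA : π b ∈ A := hA' ▸ Subgroup.subset_closure (by simp)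
    have hoa : orderOf (π a) = s := orderOf_eq_prime (hexp _ haA)
      fun e => hanc ((QuotientGroup.eq_one_iff a).1 e)
    have hle : Subgroup.zpowers (π a) ≤ Subgroup.zpowers c := Subgroup.zpowers_le.2 (hone _ haA)
    have heq := Subgroup.eq_of_le_of_card_ge hle (by
      rw [Nat.card_zpowers, Nat.card_zpowers, hoa]
      exact Nat.le_of_dvd hs.pos (orderOf_dvd_of_pow_eq_one (hexp c hcA)))
    obtain ⟨i, hi⟩ := Subgroup.mem_zpowers_iff.1 (heq.symm ▸ hone _ hbA : π b ∈ _)
    refine hind i ((hker _ _).1 ?_)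
    rw [map_zpow]; exact hi.symm
  have hSle : Subgroup.closure {a, b} ≤ S := (Subgroup.closure_le _).2 (by
    rintro _ (rfl | rfl) <;> assumption)
  have hnorm : A ≤ Subgroup.normalizer ((M.map π : Subgroup _) : Set _) := by
    refine le_trans (Subgroup.map_mono ((Subgroup.closure_le _).2 ?_)) (Subgroup.le_normalizer_map π)
    rintro _ (rfl | rfl) <;> assumption
  have hAcop : (Nat.card A).Coprime (Nat.card (M.map π)) := by
    obtain ⟨k, hk⟩ := (hS.to_le hSle).map π |>.exists_card_eq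
    rw [hA, hk]
    exact ((hcop.coprime_dvd_left (Subgroup.card_map_dvd M π)).symm).pow_left k
  have hgen := CoprimeAct.generated_by_centralizers (A := A) (K := M.map π) hncyc hnorm hAcop
  have hle : M.map π ≤ X.map π := by
    rw [← hgen]
    refine iSup₂_le fun t ht => ?_
    rintro z' ⟨⟨z, hz, rfl⟩, hzt⟩
    obtain ⟨e, he, rfl⟩ := Subgroup.mem_map.1 (show t ∈ (Subgroup.closure {a, b}).map π from ht.1)
    have hep : IsPPow s e := IsPPow.of_mem hS (hSle he)
    have henc : e ∉ Subgroup.center G := fun hc => ht.2 ((QuotientGroup.eq_one_iff e).2 hc)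
    have hc : e * z * e⁻¹ * z⁻¹ ∈ Subgroup.center G := by
      refine (hker _ _).1 ?_
      rw [map_mul, map_mul, map_inv, mul_inv_eq_iff_eq_mul]
      exact (Subgroup.mem_centralizer_singleton_iff.1 hzt).symm
    obtain ⟨k, hk⟩ := hep.orderOf_eq hs
    have hez : e ∈ cen z := mem_cen_of_coprime hc (by
      rw [hk]
      exact (((hcop.coprime_dvd_left (Subgroup.orderOf_mk z hz ▸
        orderOf_dvd_natCard (⟨z, hz⟩ : M))).symm).pow_left k))
    exact Subgroup.mem_map_of_mem π (hX e he hep henc ⟨hz, mem_cen_symm hez⟩)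
  intro z hz
  obtain ⟨w, hw, hwz⟩ := Subgroup.mem_map.1 (hle (Subgroup.mem_map_of_mem π hz))
  have := hZ ((hker z w).1 hwz.symm)
  simpa using mul_mem this hw

/-- A central section in a nilpotent group, relative to a normal subgroup. -/
lemma exists_special_rel {p : ℕ} (hp : p.Prime) {T Q Z0 : Subgroup G} (hT : IsPGroup p T)
    (hQT : Q ≤ T) (hn : T ≤ Subgroup.normalizer (Q : Set G))
    (hn0 : T ≤ Subgroup.normalizer (Z0 : Set G)) (hQ : ¬ Q ≤ Z0) :
    ∃ u ∈ Q, u ∉ Z0 ∧ ∀ y ∈ T, y * u * y⁻¹ * u⁻¹ ∈ Z0 := by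
  haveI := Fact.mk hp
  set Z' := Z0.subgroupOf T
  haveI : Z'.Normal := Subgroup.normal_subgroupOf_of_le_normalizer hn0
  haveI : (Q.subgroupOf T).Normal := Subgroup.normal_subgroupOf_of_le_normalizer hn
  set M := (Q.subgroupOf T).map (QuotientGroup.mk' Z') with hM
  haveI : M.Normal := Subgroup.Normal.map inferInstance _ (QuotientGroup.mk'_surjective _)
  haveI : Group.IsNilpotent (T ⧸ Z') := (hT.to_quotient Z').isNilpotent
  have hMne : M ≠ ⊥ := by
    rw [hM, ne_eq, Subgroup.map_eq_bot_iff, QuotientGroup.ker_mk']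
    intro h
    exact hQ fun q hq => Subgroup.mem_subgroupOf.1
      (h (Subgroup.mem_subgroupOf.2 hq : (⟨q, hQT hq⟩ : T) ∈ Q.subgroupOf T))
  obtain ⟨⟨c, hc⟩, hc1⟩ := Subgroup.ne_bot_iff_exists_ne_one.1 (SolvStruct.inf_center_ne_bot hMne)
  obtain ⟨v, hv, hvd⟩ := Subgroup.mem_map.1 hc.1
  refine ⟨v, Subgroup.mem_subgroupOf.1 hv, ?_, ?_⟩
  · intro h
    refine hc1 (Subtype.ext ?_)
    show c = 1
    exact hvd ▸ (QuotientGroup.eq_one_iff v).2 (Subgroup.mem_subgroupOf.2 h)
  · intro y hy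
    have h1 := Subgroup.mem_center_iff.1 hc.2 (QuotientGroup.mk' Z' ⟨y, hy⟩)
    rw [← hvd] at h1
    have h2 : QuotientGroup.mk' Z' (⟨y, hy⟩ * v * ⟨y, hy⟩⁻¹ * v⁻¹) = 1 := by
      rw [map_mul, map_mul, map_mul, map_inv, map_inv, h1, mul_inv_cancel_right, mul_inv_cancel]
    simpa using Subgroup.mem_subgroupOf.1 ((QuotientGroup.eq_one_iff _).1 h2)

end Cfsg.Agent.ClassQuad
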