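import Cfsg.Agent.Lib.ClassSizeQuad.CaseA
import Cfsg.Agent.Lib.ClassSizeQuad.Tools

/-!
# Class sizes `1`, `n`, `m`, `n m`: the hypothetical case B
-/

set_option autoImplicit false
set_option linter.style.haveILetI false
set_option linter.unusedSectionVars false

namespace Cfsg.Agent.ClassQuad

open Cfsg.Agent.ClassTriple

universe u

variable {G : Type u} [Group G] [Finite G] {n m : ℕ}

/-- Case B: the primes of the primary elements of class size `n` divide `m`, and conversely. -/
structure CaseB (G : Type u) [Group G] (n m : ℕ) : Prop extends Quad G n m where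
  hn : ∀ (p : ℕ) (x : G), p.Prime → IsPPow p x → sz x = n → p ∣ m
  hm : ∀ (q : ℕ) (y : G), q.Prime → IsPPow q y → sz y = m → q ∣ n

/-- All non-central `r`-elements have the largest class size. -/
def NMType (G : Type u) [Group G] (n m r : ℕ) : Prop :=
  ∀ a : G, IsPPow r a → a ∉ Subgroup.center G → sz a = n * m

theorem CaseB.symm (hB : CaseB G n m) : CaseB G m n where
  toQuad := hB.toQuad.symm
  hn := hB.hm
  hm := hB.hn

lemma NMType.symm {r : ℕ} (h : NMType G n m r) : NMType G m n r := fun a ha hc =>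
  (h a ha hc).trans (mul_comm _ _)

namespace CaseB

variable (hB : CaseB G n m)
include hB

lemma ne_of {p q : ℕ} (hp : p.Prime) (hpm : p ∣ m) (hqn : q ∣ n) : p ≠ q := fun e =>
  hB.not_dvd_m_of_dvd_n hp (e ▸ hqn) hpm

lemma sz_dvd_nm (g : G) : sz g ∣ n * m := by
  rcases hB.sizes g with e | e | e | e <;> rw [e]
  · exact one_dvd _
  · exact dvd_mul_right _ _
  · exact dvd_mul_left _ _

/-- The centralizer of an element of class size `n` contains non-central elements of every
prime occurring as an order of an element of class size `m`. -/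
theorem exists_q_in_C {p q : ℕ} {x y : G} (hp : p.Prime) (hq : q.Prime) (hx : IsPPow p x)
    (hxn : sz x = n) (hy : IsPPow q y) (hym : sz y = m) :
    ∃ w ∈ cen x, IsPPow q w ∧ w ∉ Subgroup.center G := by
  have hqn : q ∣ n := hB.hm q y hq hy hym
  have hpm : p ∣ m := hB.hn p x hp hx hxn
  have hn0 : n ≠ 0 := hB.n_pos.ne'
  have hm0 : m ≠ 0 := hB.toQuad.symm.n_pos.ne'
  by_contra hc
  push Not at hc
  have hfC : (Nat.card (cen x)).factorization q ≤
      (Nat.card (Subgroup.center G)).factorization q := by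
    by_contra hlt
    obtain ⟨a, haC, ha, hanc⟩ := exists_ppow_not_center hq (H := cen x) (not_le.1 hlt)
    exact hanc (hc a haC ha)
  have hqpart : ∀ g : G, n ∣ sz g → ∀ a ∈ cen g, IsPPow q a → a ∈ Subgroup.center G :=
    fun g hg a ha haq => central_of_fac_le hq (center_le_cen g) ((fac_cen_anti q
      (by rw [hxn]; exact (Nat.factorization_le_iff_dvd hn0
        (Subgroup.index_ne_zero_of_finite)).2 hg q)).trans hfC) ha haq
  have hync : y ∉ Subgroup.center G := hB.toQuad.symm.not_center_of_n hym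
  have hrcy : ∀ r : ℕ, r.Prime → r ∣ m → ∀ u ∈ cen y, IsPPow r u → u ∈ Subgroup.center G := by
    intro r hr hrm u hu hur
    by_contra hunc
    rcases hB.sizes u with e | e | e | e
    · exact hunc (sz_eq_one_iff.1 e)
    · exact hync (hqpart u (e ▸ dvd_rfl) y (mem_cen_symm hu) hy)
    · exact hB.not_dvd_n_of_dvd_m hr hrm (hB.hm r u hr hur e)
    · exact hync (hqpart u (e ▸ dvd_mul_right n m) y (mem_cen_symm hu) hy)
  have hmpart : ∀ g : G, m ∣ sz g → ∀ r : ℕ, r.Prime → r ∣ m → ∀ u ∈ cen g, IsPPow r u →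
      u ∈ Subgroup.center G := by
    intro g hg r hr hrm u hu hur
    refine central_of_fac_le hr (center_le_cen g) ((fac_cen_anti r (by
      rw [hym]; exact (Nat.factorization_le_iff_dvd hm0
        (Subgroup.index_ne_zero_of_finite)).2 hg r)).trans ?_) hu hur
    by_contra hlt
    obtain ⟨a, haC, ha, hanc⟩ := exists_ppow_not_center hr (H := cen y) (not_le.1 hlt)
    exact hanc (hrcy r hr hrm a haC ha)
  have hrel : ∀ a ∈ cen x, (orderOf a).Coprime p → cen x ≤ cen a := by
    intro a ha hco
    obtain ⟨i, hi⟩ := hx.orderOf_eq hp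
    have hcox : (orderOf x).Coprime (orderOf a) := hi ▸ hco.symm.pow_left i
    refine Quad.rel_one_iff.1 ((hB.rel_cases hxn ha hcox).resolve_right fun e => ?_)
    refine hB.toQuad.not_center_of_n hxn (hmpart (x * a) ?_ p hp hpm x ?_ hx)
    · rw [Quad.sz_mul_eq ha hcox, e]; exact dvd_mul_right _ _
    · rw [cen_mul_eq (mem_cen.1 ha) hcox]; exact ⟨mem_cen_self x, mem_cen_symm ha⟩
  obtain ⟨g, hg⟩ := hB.ex_nm
  refine hB.toQuad.not_center_of_nm hg (mem_of_primary fun r hr a ha har => ?_)
  have hag : a ∈ cen g := by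
    obtain ⟨k, rfl⟩ := Subgroup.mem_zpowers_iff.1 ha
    exact Subgroup.zpow_mem _ (mem_cen_self g) k
  by_cases hrm : r ∣ m
  · exact hmpart g (hg ▸ dvd_mul_left m n) r hr hrm a hag har
  by_cases hrn : r ∣ n
  · refine central_of_fac_le hr (center_le_cen g) ((fac_cen_anti r (by
      rw [hxn, hg]; exact (Nat.factorization_le_iff_dvd hn0 (mul_ne_zero hn0 hm0)).2
        (dvd_mul_right n m) r)).trans ?_) hag har
    by_contra hlt
    obtain ⟨b, hbC, hb, hbnc⟩ := exists_ppow_not_center hr (H := cen x) (not_le.1 hlt)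
    have hrp : r ≠ p := fun e => hrm (e ▸ hpm)
    rcases hB.sz_of_dvd_n (hxn ▸ sz_dvd (hrel b hbC (coprime_of_ppow_of_ne hr hp hrp hb))) with e | e
    · exact hbnc (sz_eq_one_iff.1 e)
    · exact hB.not_dvd_m_of_dvd_n hr hrn (hB.hn r b hr hb e)
  · haveI := Fact.mk hr
    exact hB.central_of_not_dvd hrn hrm har

/-- A `q`-element of `cen x` moving some of it. -/
lemma rel_q {p q : ℕ} {x w : G} (hp : p.Prime) (hq : q.Prime) (hx : IsPPow p x) (hxn : sz x = n)
    (hqn : q ∣ n) (hw : w ∈ cen x) (hwq : IsPPow q w) (hwnc : w ∉ Subgroup.center G) :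
    sz (x * w) = n * m ∧ cen (x * w) = cen x ⊓ cen w := by
  have hco := hx.coprime hp hq (hB.ne_of hp (hB.hn p x hp hx hxn) hqn) hwq
  refine ⟨?_, cen_mul_eq (mem_cen.1 hw) hco⟩
  rw [Quad.sz_mul_eq hw hco]
  rcases hB.rel_cases hxn hw hco with e | e
  · exfalso
    rcases hB.sz_of_dvd_n (hxn ▸ sz_dvd (Quad.rel_one_iff.1 e)) with e' | e'
    · exact hwnc (sz_eq_one_iff.1 e')
    · exact hB.not_dvd_m_of_dvd_n hq hqn (hB.hn q w hq hwq e')
  · rw [e, hxn, mul_comm]

/-- Only one prime occurs for the primary elements of class size `n`. -/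
theorem unique_p {p s q : ℕ} {x v₀ y : G} (hp : p.Prime) (hs : s.Prime) (hq : q.Prime)
    (hx : IsPPow p x) (hxn : sz x = n) (hv₀ : IsPPow s v₀) (hv₀n : sz v₀ = n)
    (hy : IsPPow q y) (hym : sz y = m) : p = s := by
  by_contra hps
  haveI := Fact.mk hp
  haveI := Fact.mk hs
  haveI := Fact.mk hq
  have hpm := hB.hn p x hp hx hxn
  have hsm := hB.hn s v₀ hs hv₀ hv₀n
  have hqn := hB.hm q y hq hy hym
  have hsn : ¬ s ∣ n := hB.not_dvd_n_of_dvd_m hs hsm
  obtain ⟨S, hS⟩ := exists_sylow_le (p := s) (H := cen x) (by show ¬ s ∣ sz x; rw [hxn]; exact hsn)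
  obtain ⟨c, hc1, hc2⟩ := exists_conj_sylow S hv₀ (hv₀n ▸ hsn)
  have hvn : sz (c * v₀ * c⁻¹) = n := (sz_conj _ _).trans hv₀n
  have hv : IsPPow s (c * v₀ * c⁻¹) := hv₀.conj c
  generalize c * v₀ * c⁻¹ = v at hc1 hc2 hvn hv
  have hvC : v ∈ cen x := hS hc2
  have hvnc : v ∉ Subgroup.center G := hB.toQuad.not_center_of_n hvn
  have hco_xv := hx.coprime hp hs hps hv
  have hCv : cen x = cen v := by
    refine hB.cen_eq_of_le (Quad.rel_one_iff.1 ((hB.rel_cases hxn hvC hco_xv).resolve_right
      fun e => ?_)) hxn hvnc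
    refine not_dvd_sz S (a := x * v) ?_ ?_
    · rw [cen_mul_eq (mem_cen.1 hvC) hco_xv]; exact le_inf hS hc1
    · rw [Quad.sz_mul_eq hvC hco_xv, e]; exact dvd_mul_of_dvd_left hsm _
  set C := cen x with hCdef
  have hfq : (Nat.card (Subgroup.center G)).factorization q < (Nat.card C).factorization q := by
    obtain ⟨w, hw, hwq, hwnc⟩ := hB.exists_q_in_C hp hq hx hxn hy hym
    exact fac_center_lt hq (center_le_cen x) hw hwq hwnc
  have hpq : p ≠ q := hB.ne_of hp hpm hqn
  have hsq : s ≠ q := hB.ne_of hs hsm hqn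
  obtain ⟨i, hi⟩ := hx.orderOf_eq hp
  obtain ⟨j, hj⟩ := hv.orderOf_eq hs
  have hsize : ∀ g ∈ C, (cen g).relIndex C = 1 ∨ (cen g).relIndex C = m := by
    intro g hg
    obtain ⟨a, b, ha, hb, hgab, hab, hap, hbp⟩ := exists_split hp g
    have hmem : ∀ t ∈ Subgroup.zpowers g, t ∈ C := fun t ht => Subgroup.zpowers_le.2 hg ht
    have hinf : cen g = cen a ⊓ cen b := hgab ▸ cen_mul_eq hab (by
      obtain ⟨k, hk⟩ := hap.orderOf_eq hp; rw [hk]; exact hbp.symm.pow_left k)
    have haC : a ∈ cen v := hCv ▸ hmem a ha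
    have harel : (cen a).relIndex C = 1 ∨ (cen a).relIndex C = m := by
      rw [hCv]
      exact hB.rel_cases hvn haC (hv.coprime hs hp (Ne.symm hps) hap)
    rcases hB.rel_cases hxn (hmem b hb) (hi ▸ hbp.symm.pow_left i) with e | e
    · have h1 : (cen g).relIndex C = (cen a).relIndex C := by
        rw [← Subgroup.inf_relIndex_right (cen g) C, ← Subgroup.inf_relIndex_right (cen a) C, hinf,
          inf_assoc, inf_eq_right.2 (Quad.rel_one_iff.1 e)]
      rw [h1]; exact harel
    · right
      have key : C ⊓ cen b ≤ cen a := by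
        obtain ⟨c', d, hc', hd, hbcd, hcd, hcq, hdq⟩ := exists_split hq b
        have hbz : ∀ t ∈ Subgroup.zpowers b, t ∈ C := fun t ht =>
          hmem t (Subgroup.zpowers_le.2 hb ht)
        have hdp : (orderOf d).Coprime p :=
          hbp.coprime_dvd_left (orderOf_dvd_of_mem_zpowers hd)
        have hbinf : cen b = cen c' ⊓ cen d := hbcd ▸ cen_mul_eq hcd (by
          obtain ⟨k, hk⟩ := hcq.orderOf_eq hq; rw [hk]; exact hdq.symm.pow_left k)
        obtain ⟨w, hwC, hwq, hwnc, hle⟩ : ∃ w ∈ C, IsPPow q w ∧ w ∉ Subgroup.center G ∧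
            C ⊓ cen b ≤ cen w := by
          rcases hB.rel_cases hxn (hbz d hd) (hi ▸ hdp.symm.pow_left i) with e' | e'
          · refine ⟨c', hbz c' hc', hcq, fun hz => ?_, inf_le_right.trans (hbinf ▸ inf_le_left)⟩
            rw [Quad.rel_one_iff] at e'
            have : C ≤ cen b := hbinf ▸ le_inf ((cen_eq_top_iff.2 hz).symm ▸ le_top) e'
            rw [Quad.rel_one_iff.2 this] at e
            exact hB.one_lt_m.ne e
          · have hcox : (orderOf x).Coprime (orderOf d) := hi ▸ hdp.symm.pow_left i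
            have hnm : sz (x * d) = n * m := by
              rw [Quad.sz_mul_eq (hbz d hd) hcox, e', hxn, mul_comm]
            have heq := cen_mul_eq (mem_cen.1 (hbz d hd)) hcox
            have hff : (Nat.card C).factorization q ≤
                (Nat.card (cen (x * d))).factorization q := fac_cen_anti q (by
              rw [hnm, hxn, Nat.factorization_mul hB.n_pos.ne' hB.toQuad.symm.n_pos.ne',
                Finsupp.add_apply,
                Nat.factorization_eq_zero_of_not_dvd (hB.not_dvd_m_of_dvd_n hq hqn), add_zero])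
            obtain ⟨w, hw, hwq, hwnc⟩ := exists_ppow_not_center hq (H := cen (x * d))
              (lt_of_lt_of_le hfq hff)
            have hxq : (orderOf x).Coprime q := coprime_of_ppow_of_ne hp hq hpq hx
            obtain ⟨k, hk⟩ := hwq.orderOf_eq hq
            refine ⟨w, (show w ∈ cen x ⊓ cen d from heq ▸ hw).1, hwq, hwnc, le_trans ?_
              (hB.toQuad.cen_le_of_nm hnm hw (hk ▸ Nat.Coprime.pow_right k
                (Nat.Coprime.coprime_dvd_left
                  (show Commute x d from mem_cen.1 (hbz d hd)).orderOf_mul_dvd_mul_orderOf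
                  (hxq.mul_left hdq))))⟩
            rw [heq]
            exact le_inf inf_le_left (inf_le_right.trans (hbinf ▸ inf_le_right))
        obtain ⟨hnmw, heqw⟩ := hB.rel_q hp hq hx hxn hqn hwC hwq hwnc
        have hbx : C ⊓ cen b = cen (x * w) := by
          refine eq_of_le_of_index (heqw ▸ le_inf inf_le_left hle) ?_
          rw [← cen_mul_eq (mem_cen.1 (hmem b hb)) (hi ▸ hbp.symm.pow_left i)]
          show sz (x * b) = _
          rw [Quad.sz_mul_eq (hmem b hb) (hi ▸ hbp.symm.pow_left i), e, hxn, mul_comm]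
          exact hnmw.symm
        have hab' : a ∈ C ⊓ cen b := ⟨hmem a ha, mem_cen.2 hab.eq.symm⟩
        have haw : Commute a w := (mem_cen.1 (hle hab')).symm
        have hco : (orderOf v).Coprime (orderOf (a * w)) := by
          rw [hj]
          refine ((Nat.Coprime.coprime_dvd_left haw.orderOf_mul_dvd_mul_orderOf ?_).symm).pow_left j
          exact (coprime_of_ppow_of_ne hp hs hps hap).mul_left
            (coprime_of_ppow_of_ne hq hs hsq.symm hwq)
        have hawC : a * w ∈ cen v := hCv ▸ C.mul_mem (hmem a ha) hwC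
        have h2 : cen (v * (a * w)) = cen v ⊓ (cen a ⊓ cen w) := by
          rw [cen_mul_eq (mem_cen.1 hawC) hco, cen_mul_eq haw (hap.coprime hp hq hpq hwq)]
        have h3 := hB.toQuad.nm_min (a := v * (a * w)) (b := x * w)
          (by
            rw [h2, heqw]
            exact le_inf (inf_le_left.trans (le_of_eq hCv.symm))
              (inf_le_right.trans inf_le_right)) hnmw
        rw [hbx, ← h3, h2]
        exact inf_le_right.trans inf_le_left
      rw [← Subgroup.inf_relIndex_right, hinf, inf_assoc, inf_eq_right.2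
        ((inf_comm (cen b) C).le.trans key), Subgroup.inf_relIndex_right, e]
  obtain ⟨w, hw, hwq, hwnc⟩ := hB.exists_q_in_C hp hq hx hxn hy hym
  obtain ⟨hnmw, heqw⟩ := hB.rel_q hp hq hx hxn hqn hw hwq hwnc
  have hwrel : (cen w).relIndex C = m := by
    refine (hsize w hw).resolve_left fun e => ?_
    have h1 : sz x = n * m := by
      rw [← hnmw]
      show C.index = (cen (x * w)).index
      rw [heqw, inf_eq_left.2 (Quad.rel_one_iff.1 e)]
    rw [hxn] at h1
    exact hB.one_lt_m.ne (Nat.eq_of_mul_eq_mul_left hB.n_pos ((mul_one n).trans h1))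
  obtain ⟨r, hr, a, hma, -⟩ := S4134.result (G := C) m hB.one_lt_m
    (fun g => by rw [centralizer_subgroupOf]; exact hsize g g.2)
    ⟨⟨w, hw⟩, by rw [centralizer_subgroupOf]; exact hwrel⟩
  have h1 := (Nat.prime_dvd_prime_iff_eq hp hr.out).1 (hp.dvd_of_dvd_pow (hma ▸ hpm))
  have h2 := (Nat.prime_dvd_prime_iff_eq hs hr.out).1 (hs.dvd_of_dvd_pow (hma ▸ hsm))
  exact hps (h1.trans h2.symm)

end CaseB

end Cfsg.Agent.ClassQuad
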