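import Cfsg.Agent.Lib.ClassSizeQuad.CaseB

/-!
# Class sizes `1`, `n`, `m`, `n m`: both prime powers, in case B
-/

set_option autoImplicit false
set_option linter.style.haveILetI false
set_option linter.unusedSectionVars false

namespace Cfsg.Agent.ClassQuad

open Cfsg.Agent.ClassTriple

universe u

variable {G : Type u} [Group G] [Finite G] {n m p q : ℕ}

/-- Case B with `n` a power of `q` and `m` a power of `p`. -/
structure PP (G : Type u) [Group G] (n m p q : ℕ) : Prop where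
  caseB : CaseB G n m
  pp : p.Prime
  qp : q.Prime
  pq : p ≠ q
  hna : ∃ a : ℕ, n = q ^ a
  hmb : ∃ b : ℕ, m = p ^ b
  x_ex : ∃ x : G, IsPPow p x ∧ sz x = n
  y_ex : ∃ y : G, IsPPow q y ∧ sz y = m

theorem PP.symm (d : PP G n m p q) : PP G m n q p :=
  ⟨d.caseB.symm, d.qp, d.pp, d.pq.symm, d.hmb, d.hna, d.y_ex, d.x_ex⟩

lemma coprime_mem_sup_center {r : ℕ} [Fact r.Prime] {ℓ : ℕ} (hℓ : ℓ.Prime) (hne : ℓ ≠ r) {A : Subgroup G}
    [A.Normal] (hA : IsPGroup r A) {g : G} (hg : g ∈ A ⊔ Subgroup.center G) (hgl : IsPPow ℓ g) :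
    g ∈ Subgroup.center G := by
  obtain ⟨a, ha, z, hz, e⟩ := Subgroup.mem_sup_of_normal_left.1 hg
  obtain ⟨j, hj⟩ := IsPPow.of_mem hA ha
  have h1 : g ^ r ^ j ∈ Subgroup.center G := by
    rw [← e, (show Commute a z from Subgroup.mem_center_iff.1 hz a).mul_pow, hj, one_mul]
    exact pow_mem hz _
  obtain ⟨i, hi⟩ := hgl.orderOf_eq hℓ
  obtain ⟨k, hk⟩ := exists_pow_eq_self_of_coprime (x := g) (n := r ^ j) (by
    rw [hi]; exact ((Nat.coprime_primes Fact.out hℓ).2 hne.symm).pow j i)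
  exact hk ▸ pow_mem h1 k

namespace PP

variable (d : PP G n m p q)
include d

lemma other (r : ℕ) (hr : r.Prime) (h1 : r ≠ p) (h2 : r ≠ q) (a : G) (ha : IsPPow r a) :
    a ∈ Subgroup.center G := by
  haveI := Fact.mk hr
  obtain ⟨i, hi⟩ := d.hna
  obtain ⟨j, hj⟩ := d.hmb
  exact d.caseB.central_of_not_dvd
    (fun hd => h2 ((Nat.prime_dvd_prime_iff_eq hr d.qp).1 (hr.dvd_of_dvd_pow (hi ▸ hd))))
    (fun hd => h1 ((Nat.prime_dvd_prime_iff_eq hr d.pp).1 (hr.dvd_of_dvd_pow (hj ▸ hd)))) ha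

lemma solvable : Group.IsSolvable G := Quad.solvable_of_two d.pp d.qp d.pq d.other

lemma qn : q ∣ n := let ⟨y, hy, hym⟩ := d.y_ex; d.caseB.hm q y d.qp hy hym

lemma pm : p ∣ m := d.symm.qn

lemma n_dvd {v : G} (hv : IsPPow p v) (hvnc : v ∉ Subgroup.center G) : n ∣ sz v := by
  rcases d.caseB.sizes v with e | e | e | e
  · exact absurd (sz_eq_one_iff.1 e) hvnc
  · rw [e]
  · exact absurd d.pm (d.caseB.not_dvd_m_of_dvd_n d.pp (d.caseB.hm p v d.pp hv e))
  · exact e ▸ dvd_mul_right n m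

lemma fac_eq {v x : G} (hv : IsPPow p v) (hvnc : v ∉ Subgroup.center G) (hxn : sz x = n) :
    (Nat.card (cen v)).factorization q = (Nat.card (cen x)).factorization q := by
  have h0 : (sz v).factorization q = (sz x).factorization q := by
    rw [hxn]
    rcases d.caseB.sz_of_n_dvd (d.n_dvd hv hvnc) with e | e <;> rw [e]
    rw [Nat.factorization_mul d.caseB.n_pos.ne' d.caseB.toQuad.symm.n_pos.ne', Finsupp.add_apply,
      Nat.factorization_eq_zero_of_not_dvd (d.caseB.not_dvd_m_of_dvd_n d.qp d.qn), add_zero]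
  exact le_antisymm (fac_cen_anti q h0.ge) (fac_cen_anti q h0.le)

lemma exists_q_cen {v : G} (hv : IsPPow p v) (hvnc : v ∉ Subgroup.center G) :
    ∃ w ∈ cen v, IsPPow q w ∧ w ∉ Subgroup.center G := by
  obtain ⟨x, hx, hxn⟩ := d.x_ex
  obtain ⟨y, hy, hym⟩ := d.y_ex
  obtain ⟨w, hw, hwq, hwnc⟩ := d.caseB.exists_q_in_C d.pp d.qp hx hxn hy hym
  exact exists_ppow_not_center d.qp (lt_of_lt_of_le
    (fac_center_lt d.qp (center_le_cen x) hw hwq hwnc) (d.fac_eq hv hvnc hxn).ge)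

/-- Elements of class size `n` centralize the `p`-core. -/
lemma n_centralizes {v : G} (hv : IsPPow p v) (hvn : sz v = n) :
    Cfsg.pCore p G ≤ cen v := by
  haveI := Fact.mk d.pp
  obtain ⟨P, hP, -⟩ := exists_sylow_le_cen hv (hvn ▸ d.caseB.not_dvd_n_of_dvd_m d.pp d.pm)
  exact (FittingCores.pCore_le_sylow P).trans hP

/-- The `q`-elements commuting with an element of class size `n m` centralize the `p`-core. -/
lemma nm_partner {v w : G} (hv : IsPPow p v) (hvnm : sz v = n * m) (hw : w ∈ cen v)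
    (hwq : IsPPow q w) : Cfsg.pCore p G ≤ cen w := by
  haveI := Fact.mk d.pp
  haveI := FittingCores.pCore_normal (G := G) p
  have hle := d.caseB.toQuad.cen_le_of_nm hvnm hw (hv.coprime d.pp d.qp d.pq hwq)
  have key := CharP.pxq (p := p) (R := Cfsg.pCore p G) (U := Subgroup.zpowers v) (x := w)
    (FittingCores.pCore_isPGroup p) (hv.isPGroup_zpowers d.pp)
    Subgroup.le_normalizer_of_normal (coprime_of_ppow_of_ne d.qp d.pp d.pq.symm hwq)
    (Subgroup.le_normalizer_of_normal (Subgroup.mem_top w))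
    (fun u hu => by
      obtain ⟨k, rfl⟩ := Subgroup.mem_zpowers_iff.1 hu
      exact ((show Commute v w from mem_cen.1 hw).zpow_left k).symm.eq)
    (fun r _ hcomm => mem_cen.1 (hle (mem_cen.2 (hcomm v (Subgroup.mem_zpowers v)).symm)))
  exact fun r hr => mem_cen.2 (key r hr)

/-- A `q`-element centralizing both cores is in the `q`-core. -/
lemma mem_core {w : G} (hw : IsPPow q w) (h1 : Cfsg.pCore p G ≤ cen w)
    (h2 : Cfsg.pCore q G ≤ cen w) : w ∈ Cfsg.pCore q G := by
  haveI := d.solvable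
  haveI := Fact.mk d.qp
  have hle : Cfsg.fittingSubgroup G ≤ cen w := by
    rw [FittingCores.fitting_eq_iSup_pCore]
    refine iSup_le fun ℓ z hz => ?_
    by_cases e1 : (ℓ : ℕ) = p
    · exact h1 (e1 ▸ hz)
    by_cases e2 : (ℓ : ℕ) = q
    · exact h2 (e2 ▸ hz)
    haveI := Fact.mk ℓ.2
    exact mem_cen_of_mem_center (d.other ℓ ℓ.2 e1 e2 z
      (IsPPow.of_mem (FittingCores.pCore_isPGroup _) hz)) w
  have hF : w ∈ Cfsg.fittingSubgroup G :=
    FittingCores.centralizer_fitting_le (Subgroup.mem_centralizer_iff.2 fun z hz =>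
      (mem_cen.1 (hle hz)).symm)
  haveI := FittingCores.fitting_normal (G := G)
  haveI := FittingCores.fitting_nilpotent (G := G)
  have hw' : IsPPow q (⟨w, hF⟩ : Cfsg.fittingSubgroup G) :=
    hw.imp fun i hi => Subtype.ext (by simpa using hi)
  obtain ⟨S, hS⟩ := (hw'.isPGroup_zpowers d.qp).exists_le_sylow
  exact FittingCores.sylow_le_pCore_of_nilpotent inferInstance q S
    ⟨⟨w, hF⟩, hS (Subgroup.mem_zpowers _), rfl⟩

lemma relIndex_sylow (Q : Sylow q G) {v : G} (hvn : sz v = n) :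
    (cen v).relIndex Q = n := by
  haveI := Fact.mk d.qp
  obtain ⟨a, ha⟩ := d.hna
  refine le_antisymm ?_ ?_
  · refine le_trans (Nat.card_le_card_of_injective _ ((Subgroup.quotientSubgroupOfEmbeddingOfLE (cen v)
        (le_top : (Q : Subgroup G) ≤ ⊤)).injective)) (le_of_eq ?_)
    exact (Subgroup.relIndex_top_right (cen v)).trans hvn
  · have h1 := ((cen v).subgroupOf Q).index_mul_card
    change (cen v).relIndex Q * _ = _ at h1
    rw [Q.card_eq_multiplicity] at h1
    have h2 : Nat.card ((cen v).subgroupOf (Q : Subgroup G)) ≤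
        q ^ (Nat.card (cen v)).factorization q := by
      obtain ⟨i, hi⟩ := (Q.isPGroup'.to_subgroup ((cen v).subgroupOf Q)).exists_card_eq
      rw [hi]
      refine Nat.pow_le_pow_right d.qp.pos ((d.qp.pow_dvd_iff_le_factorization Nat.card_pos.ne').1 ?_)
      rw [← hi, ← Subgroup.card_map_of_injective (Q : Subgroup G).subtype_injective]
      refine Subgroup.card_dvd_of_le ?_
      rintro _ ⟨t, ht, rfl⟩
      exact ht
    have h3 := fac_index q (cen v)
    rw [show (cen v).index = n from hvn, ha, d.qp.factorization_pow, Finsupp.single_eq_same] at h3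
    rw [← h3, pow_add] at h1
    have h4 : 0 < q ^ (Nat.card (cen v)).factorization q := pow_pos d.qp.pos _
    by_contra hlt
    rw [ha, not_le] at hlt
    have : (cen v).relIndex Q * Nat.card ((cen v).subgroupOf (Q : Subgroup G)) <
        q ^ a * q ^ (Nat.card (cen v)).factorization q :=
      lt_of_le_of_lt (Nat.mul_le_mul_left _ h2) (Nat.mul_lt_mul_of_pos_right hlt h4)
    rw [h1, mul_comm] at this
    exact lt_irrefl _ this

/-- The commutator map with a `q`-element equalizes all stabilisers. -/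
theorem phi (hAc : ∀ a ∈ Cfsg.pCore p G, ∀ b ∈ Cfsg.pCore p G, a * b = b * a)
    (hAn : ∀ a ∈ Cfsg.pCore p G, a ∉ Subgroup.center G → sz a = n) (Q : Sylow q G) {ω : G}
    (hωQ : ω ∈ (Q : Subgroup G))
    (hωc : ∀ t ∈ (Q : Subgroup G), t * ω * t⁻¹ * ω⁻¹ ∈ Subgroup.center G)
    {u u2 : G} (hu : u ∈ Cfsg.pCore p G) (hunc : u ∉ Subgroup.center G) (hωu : ω ∈ cen u)
    (hu2 : u2 ∈ Cfsg.pCore p G) (hωu2 : ω ∉ cen u2) : False := by
  haveI := Fact.mk d.pp
  haveI := Fact.mk d.qp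
  haveI hn := FittingCores.pCore_normal (G := G) p
  set v := u * u2 with hvdef
  set r := v * ω * v⁻¹ * ω⁻¹ with hrdef
  have hωv : ω ∉ cen v := fun h => hωu2 (mem_cen.2 (by
    have h1 := mem_cen.1 h
    rw [hvdef] at h1
    have h2 := mem_cen.1 hωu
    calc u2 * ω = u⁻¹ * (u * u2 * ω) := by group
      _ = u⁻¹ * (ω * u) * u2 := by rw [h1]; group
      _ = ω * u2 := by rw [← h2]; group))
  have hvA : v ∈ Cfsg.pCore p G := mul_mem hu hu2
  have hvnc : v ∉ Subgroup.center G := fun h => hωv (mem_cen_symm (mem_cen_of_mem_center h ω))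
  have hu2nc : u2 ∉ Subgroup.center G := fun h => hωu2 (mem_cen_symm (mem_cen_of_mem_center h ω))
  have hrA : r ∈ Cfsg.pCore p G := by
    rw [hrdef, show v * ω * v⁻¹ * ω⁻¹ = v * (ω * v⁻¹ * ω⁻¹) by group]
    exact mul_mem hvA (hn.conj_mem _ (inv_mem hvA) ω)
  have hωp : IsPPow q ω := IsPPow.of_mem Q.isPGroup' hωQ
  have hr2 : r = u2 * ω * u2⁻¹ * ω⁻¹ := by
    have h1 := mem_cen.1 hωu
    have h3 : Commute u u2 := hAc u hu u2 hu2
    rw [hrdef, hvdef, show u * u2 = u2 * u from h3.eq, mul_inv_rev,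
      show u2 * u * ω * (u⁻¹ * u2⁻¹) * ω⁻¹ = u2 * (u * ω * u⁻¹) * u2⁻¹ * ω⁻¹ by group, h1,
      mul_inv_cancel_right]
  have hrnc : r ∉ Subgroup.center G := fun h => hωv (mem_cen_symm (mem_cen_of_coprime h
    ((IsPPow.of_mem (FittingCores.pCore_isPGroup p) hvA).coprime d.pp d.qp d.pq hωp)))
  have hle : ∀ a, a ∈ Cfsg.pCore p G → a * ω * a⁻¹ * ω⁻¹ = r →
      ∀ t ∈ (Q : Subgroup G), t ∈ cen a → t ∈ cen r := by
    intro a _ har t htQ hta
    have hz := hωc t htQ
    have h1 : t * a * t⁻¹ = a := by rw [(mem_cen.1 hta).symm, mul_inv_cancel_right]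
    set z := t * ω * t⁻¹ * ω⁻¹ with hzdef
    have h2 : t * r * t⁻¹ = r := by
      rw [← har]
      calc t * (a * ω * a⁻¹ * ω⁻¹) * t⁻¹ =
            (t * a * t⁻¹) * (z * ω) * (t * a * t⁻¹)⁻¹ * (z * ω)⁻¹ := by rw [hzdef]; group
        _ = a * (z * ω) * a⁻¹ * (z * ω)⁻¹ := by rw [h1]
        _ = z * (a * ω * a⁻¹ * ω⁻¹) * z⁻¹ := by
            rw [show a * (z * ω) = z * (a * ω) by
              rw [← mul_assoc, Subgroup.mem_center_iff.1 hz a, mul_assoc]]
            group
        _ = a * ω * a⁻¹ * ω⁻¹ := by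
            rw [← Subgroup.mem_center_iff.1 hz (a * ω * a⁻¹ * ω⁻¹), mul_inv_cancel_right]
    exact mem_cen.2 (mul_inv_eq_iff_eq_mul.1 h2).symm
  set S : G → Subgroup G := fun a => (Q : Subgroup G) ⊓ cen a with hS
  have hcard : ∀ a b, a ∈ Cfsg.pCore p G → a ∉ Subgroup.center G → b ∈ Cfsg.pCore p G →
      b ∉ Subgroup.center G → S a ≤ S b → S a = S b := by
    intro a b ha hanc hb hbnc hab
    have e : ∀ a', (cen a').relIndex Q = (S a').relIndex Q := fun a' =>
      (Subgroup.inf_relIndex_left (H := (Q : Subgroup G)) (K := cen a')).symm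
    refine le_antisymm hab ?_
    have h1 := d.relIndex_sylow Q (hAn a ha hanc)
    have h2 := d.relIndex_sylow Q (hAn b hb hbnc)
    rw [e] at h1 h2
    have h3 := Subgroup.relIndex_mul_relIndex (S a) (S b) Q hab inf_le_left
    rw [h1, h2] at h3
    exact Subgroup.relIndex_eq_one.1 (Nat.eq_of_mul_eq_mul_right d.caseB.n_pos
      (h3.trans (one_mul n).symm))
  have e1 : S v = S r := hcard v r hvA hvnc hrA hrnc fun t ht =>
    ⟨ht.1, hle v hvA hrdef.symm t ht.1 ht.2⟩
  have e2 : S u2 = S r := hcard u2 r hu2 hu2nc hrA hrnc fun t ht =>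
    ⟨ht.1, hle u2 hu2 hr2.symm t ht.1 ht.2⟩
  have e3 : S v = S u := hcard v u hvA hvnc hu hunc fun t ht => by
    have h1 : t ∈ S u2 := e2 ▸ e1 ▸ ht
    refine ⟨ht.1, mem_cen_symm ?_⟩
    have : u = v * u2⁻¹ := by rw [hvdef, mul_inv_cancel_right]
    rw [this]
    exact (cen t).mul_mem (mem_cen_symm ht.2) ((cen t).inv_mem (mem_cen_symm h1.2))
  exact hωv ((e3.symm ▸ (⟨hωQ, hωu⟩ : ω ∈ S u) : ω ∈ S v)).2

/-- A non-central element of the `p`-core exists if the `q`-core is central. -/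
theorem false_of_central (hq : Cfsg.pCore q G ≤ Subgroup.center G) : False := by
  haveI := Fact.mk d.pp
  haveI := Fact.mk d.qp
  have hOq : ∀ t : G, Cfsg.pCore q G ≤ cen t := fun t => hq.trans (center_le_cen t)
  have hP : ∀ v : G, IsPPow p v → v ∈ Cfsg.pCore p G := by
    intro v hv
    refine d.symm.mem_core hv (hOq v) ?_
    by_cases hvc : v ∈ Subgroup.center G
    · rw [cen_eq_top_iff.2 hvc]; exact le_top
    rcases d.caseB.sz_of_n_dvd (d.n_dvd hv hvc) with e | e
    · exact d.n_centralizes hv e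
    · exfalso
      obtain ⟨w, hw, hwq, hwnc⟩ := d.exists_q_cen hv hvc
      exact hwnc (hq (d.mem_core hwq (d.nm_partner hv e hw hwq) (hOq w)))
  have hAc : ∀ a ∈ Cfsg.pCore p G, ∀ b ∈ Cfsg.pCore p G, a * b = b * a := by
    intro a ha b hb
    have hap := IsPPow.of_mem (FittingCores.pCore_isPGroup p) ha
    by_cases hac : a ∈ Subgroup.center G
    · exact (Subgroup.mem_center_iff.1 hac b).symm
    rcases d.caseB.sz_of_n_dvd (d.n_dvd hap hac) with e | e
    · exact mem_cen.1 (d.n_centralizes hap e hb)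
    · obtain ⟨w, hw, hwq, hwnc⟩ := d.exists_q_cen hap hac
      exact absurd (hq (d.mem_core hwq (d.nm_partner hap e hw hwq) (hOq w))) hwnc
  have hAn : ∀ a ∈ Cfsg.pCore p G, a ∉ Subgroup.center G → sz a = n := by
    intro a ha hac
    have hap := IsPPow.of_mem (FittingCores.pCore_isPGroup p) ha
    refine (d.caseB.sz_of_n_dvd (d.n_dvd hap hac)).resolve_right fun e => ?_
    obtain ⟨w, hw, hwq, hwnc⟩ := d.exists_q_cen hap hac
    exact hwnc (hq (d.mem_core hwq (d.nm_partner hap e hw hwq) (hOq w)))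
  obtain ⟨y, hy, hym⟩ := d.y_ex
  obtain ⟨Q, hQy, hyQ⟩ := exists_sylow_le_cen (p := q) hy
    (by rw [hym]; exact d.caseB.not_dvd_m_of_dvd_n d.qp d.qn)
  have hync := d.caseB.toQuad.symm.not_center_of_n hym
  obtain ⟨u, hu, hup, hunc⟩ := d.symm.exists_q_cen hy hync
  obtain ⟨u2, hu2, hu2y⟩ : ∃ u2 ∈ Cfsg.pCore p G, y ∉ cen u2 := by
    by_contra hc
    push Not at hc
    exact hync (hq (d.mem_core hy (fun t ht => mem_cen_symm (hc t ht)) (hOq y)))
  refine d.phi hAc hAn Q hyQ (fun t ht => ?_) (hP u hup) hunc (mem_cen_symm hu) hu2 hu2y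
  rw [← mem_cen.1 (hQy ht), mul_inv_cancel_right, mul_inv_cancel]; exact one_mem _

lemma partner_centralizes {u w : G} (hu : IsPPow p u) (hunc : u ∉ Subgroup.center G)
    (huO : Cfsg.pCore q G ≤ cen u) (hw : w ∈ cen u) (hwq : IsPPow q w) :
    Cfsg.pCore q G ≤ cen w := by
  haveI := Fact.mk d.qp
  by_cases hwc : w ∈ Subgroup.center G
  · rw [cen_eq_top_iff.2 hwc]; exact le_top
  rcases d.caseB.sz_of_n_dvd (d.n_dvd hu hunc) with e | e
  · obtain ⟨h1, h2⟩ := d.caseB.rel_q d.pp d.qp hu e d.qn hw hwq hwc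
    have hle : cen (u * w) ≤ cen u := h2 ▸ inf_le_left
    obtain ⟨R⟩ := (inferInstance : Nonempty (Sylow q (cen (u * w))))
    set R' := ((R : Subgroup (cen (u * w))).map (cen (u * w)).subtype).subgroupOf (cen u)
    have hle' : (R : Subgroup (cen (u * w))).map (cen (u * w)).subtype ≤ cen u :=
      (Subgroup.map_subtype_le _).trans hle
    have hfq : (Nat.card (cen u)).factorization q ≤ (Nat.card (cen (u * w))).factorization q :=
      fac_cen_anti q (by
        rw [h1, e, Nat.factorization_mul d.caseB.n_pos.ne' d.caseB.toQuad.symm.n_pos.ne',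
          Finsupp.add_apply, Nat.factorization_eq_zero_of_not_dvd
            (d.caseB.not_dvd_m_of_dvd_n d.qp d.qn), add_zero])
    have hcard : Nat.card R' = q ^ (Nat.card (cen u)).factorization q := by
      rw [Nat.card_congr (Subgroup.subgroupOfEquivOfLe hle').toEquiv,
        Subgroup.card_map_of_injective (cen (u * w)).subtype_injective, R.card_eq_multiplicity,
        le_antisymm hfq (fac_le_of_le q hle)]
    haveI := FittingCores.pCore_normal (G := G) q
    have hO : (Cfsg.pCore q G).subgroupOf (cen u) ≤ R' :=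
      ((FittingCores.pCore_isPGroup q).comap_subtype).le_sylow_of_normal (Sylow.ofCard R' hcard)
    intro t ht
    obtain ⟨t', -, ht'⟩ := Subgroup.mem_map.1 (Subgroup.mem_subgroupOf.1
      (hO (Subgroup.mem_subgroupOf.2 ht : (⟨t, huO ht⟩ : cen u) ∈ _)))
    have : t ∈ cen (u * w) := by
      have h3 : (t' : G) = t := ht'
      exact h3 ▸ t'.2
    exact ((le_of_eq h2) this).2
  · exact huO.trans (d.caseB.toQuad.cen_le_of_nm e hw (hu.coprime d.pp d.qp d.pq hwq))

lemma cores_commute {a b : G} (ha : a ∈ Cfsg.pCore p G) (hb : b ∈ Cfsg.pCore q G) :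
    a * b = b * a := by
  haveI := Fact.mk d.pp
  haveI := Fact.mk d.qp
  have hd : Disjoint (Cfsg.pCore p G) (Cfsg.pCore q G) :=
    IsPGroup.disjoint_of_ne p q d.pq _ _ (FittingCores.pCore_isPGroup p)
      (FittingCores.pCore_isPGroup q)
  exact (Subgroup.commute_of_normal_of_disjoint _ _ (FittingCores.pCore_normal p)
    (FittingCores.pCore_normal q) hd a b ha hb).eq

/-- `p`-elements centralize the `p`-core when it is not central. -/
lemma p_centralizes (hp : ¬ Cfsg.pCore p G ≤ Subgroup.center G)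
    (hq : ¬ Cfsg.pCore q G ≤ Subgroup.center G) {v : G} (hv : IsPPow p v) :
    Cfsg.pCore p G ≤ cen v ∧ (v ∉ Cfsg.pCore p G → sz v = n) := by
  haveI := Fact.mk d.pp
  haveI := Fact.mk d.qp
  by_cases hvc : v ∈ Subgroup.center G
  · refine ⟨by rw [cen_eq_top_iff.2 hvc]; exact le_top, fun h => absurd ?_ h⟩
    exact d.symm.mem_core hv (by rw [cen_eq_top_iff.2 hvc]; exact le_top)
      (by rw [cen_eq_top_iff.2 hvc]; exact le_top)
  rcases d.caseB.sz_of_n_dvd (d.n_dvd hv hvc) with e | e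
  · exact ⟨d.n_centralizes hv e, fun _ => e⟩
  obtain ⟨u, hu, hunc⟩ := SetLike.not_le_iff_exists.1 hp
  have huO : Cfsg.pCore q G ≤ cen u := fun t ht => mem_cen.2 (d.cores_commute hu ht)
  have hup : IsPPow p u := IsPPow.of_mem (FittingCores.pCore_isPGroup p) hu
  have hin : ∀ w ∈ cen v, IsPPow q w → w ∈ Cfsg.pCore q G := fun w hw hwq => by
    have h1 := d.nm_partner hv e hw hwq
    exact d.mem_core hwq h1 (d.partner_centralizes hup hunc huO (mem_cen_symm (h1 hu)) hwq)
  obtain ⟨R⟩ := (inferInstance : Nonempty (Sylow q (cen v)))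
  have hR : (R : Subgroup (cen v)).map (cen v).subtype = Cfsg.pCore q G := by
    refine eq_of_le_of_fac d.qp (R.isPGroup'.map _) (FittingCores.pCore_isPGroup q) ?_ ?_
    · rintro _ ⟨t, ht, rfl⟩
      exact hin t t.2 (IsPPow.of_mem (R.isPGroup'.map (cen v).subtype) (Subgroup.mem_map_of_mem _ ht))
    · obtain ⟨x, hx, hxn⟩ := d.x_ex
      rw [Subgroup.card_map_of_injective (cen v).subtype_injective, R.card_eq_multiplicity,
        d.qp.factorization_pow, Finsupp.single_eq_same, d.fac_eq hv hvc hxn,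
        ← d.fac_eq hup hunc hxn]
      exact fac_le_of_le q huO
  have hvq : Cfsg.pCore q G ≤ cen v := hR ▸ Subgroup.map_subtype_le _
  obtain ⟨w, hw, hwnc⟩ := SetLike.not_le_iff_exists.1 hq
  have h1 : Cfsg.pCore p G ≤ cen v := d.symm.partner_centralizes
    (IsPPow.of_mem (FittingCores.pCore_isPGroup q) hw) hwnc
    (fun t ht => mem_cen.2 (d.cores_commute ht hw).symm) (mem_cen_symm (hvq hw)) hv
  exact ⟨h1, fun h => absurd (d.symm.mem_core hv hvq h1) h⟩

/-- Commutators of `q`-elements lie in the `p`-core modulo the centre. -/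
lemma comm_mem (hp : ¬ Cfsg.pCore p G ≤ Subgroup.center G)
    (hq : ¬ Cfsg.pCore q G ≤ Subgroup.center G) {t t' : G} (ht : IsPPow q t) (ht' : IsPPow q t') :
    t' * t * t'⁻¹ * t⁻¹ ∈ Cfsg.pCore p G ⊔ Subgroup.center G := by
  haveI := Fact.mk d.pp
  haveI := Fact.mk d.qp
  haveI := FittingCores.pCore_normal (G := G) p
  haveI := FittingCores.pCore_normal (G := G) q
  set K0 := Cfsg.pCore p G ⊔ Subgroup.center G with hK0
  set L := Subgroup.centralizer (Cfsg.pCore q G : Set G) with hL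
  haveI : L.Normal := by rw [hL]; infer_instance
  have hq' : ∀ s : G, IsPPow q s → Cfsg.pCore q G ≤ cen s :=
    fun s hs => (d.symm.p_centralizes hq hp hs).1
  have hmemL : ∀ s : G, Cfsg.pCore q G ≤ cen s ↔ s ∈ L := fun s => by
    rw [hL, Subgroup.mem_centralizer_iff]
    exact ⟨fun h a ha => (mem_cen.1 (h ha)).symm, fun h a ha => mem_cen.2 (h a ha).symm⟩
  by_cases htO : t ∈ Cfsg.pCore q G
  · rw [mem_cen.1 (hq' t' ht' htO), mul_inv_cancel_right, mul_inv_cancel]
    exact one_mem _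
  have htm : sz t = m := (d.symm.p_centralizes hq hp ht).2 htO
  obtain ⟨R, hR, -⟩ := exists_sylow_le_cen ht (htm ▸ d.caseB.not_dvd_m_of_dvd_n d.qp d.qn)
  set π := QuotientGroup.mk' K0
  have hLq : IsPGroup q (L.map π) := by
    rintro ⟨_, s, hs, rfl⟩
    refine ⟨(orderOf s).factorization q, Subtype.ext ?_⟩
    rw [SubmonoidClass.coe_pow, Subgroup.coe_one, ← map_pow]
    refine (QuotientGroup.eq_one_iff _).2 (mem_of_primary fun r hr a ha har => ?_)
    by_cases hrq : r = q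
    · subst hrq
      have hd : orderOf a ∣ orderOf (s ^ r ^ (orderOf s).factorization r) :=
        orderOf_dvd_of_mem_zpowers ha
      rw [orderOf_pow_of_dvd (pow_ne_zero _ hr.ne_zero) (Nat.ordProj_dvd _ _)] at hd
      obtain ⟨i, hi⟩ := har.orderOf_eq hr
      have : a = 1 := orderOf_eq_one_iff.1 (Nat.eq_one_of_dvd_coprimes
        ((Nat.coprime_ordCompl hr (orderOf_pos s).ne').pow_left i) (hi ▸ dvd_rfl) hd)
      rw [this]; exact one_mem _
    by_cases hrp : r = p
    · subst hrp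
      refine Subgroup.mem_sup_left (d.symm.mem_core har ?_ (d.p_centralizes hp hq har).1)
      exact (hmemL a).2 (Subgroup.zpowers_le.2 (pow_mem hs _) ha)
    · exact Subgroup.mem_sup_right (d.other r hr hrp hrq a har)
  have hsurj : Function.Surjective π := QuotientGroup.mk'_surjective _
  have hle : (R : Subgroup G).map π ≤ L.map π :=
    Subgroup.map_mono fun s hs => (hmemL s).1 (hq' s (IsPPow.of_mem R.isPGroup' hs))
  have heq : L.map π = (R : Subgroup G).map π :=
    (R.mapSurjective hsurj).is_maximal' hLq hle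
  obtain ⟨s, hs, hst⟩ := Subgroup.mem_map.1
    (heq ▸ Subgroup.mem_map_of_mem π ((hmemL t').1 (hq' t' ht')) : π t' ∈ (R : Subgroup G).map π)
  refine (QuotientGroup.eq_one_iff _).1 ?_
  show π (t' * t * t'⁻¹ * t⁻¹) = 1
  rw [map_mul, map_mul, map_mul, map_inv, map_inv, ← hst, ← map_mul, ← mem_cen.1 (hR hs), map_mul,
    mul_inv_cancel_right, mul_inv_cancel]

lemma core_partner (hp : ¬ Cfsg.pCore p G ≤ Subgroup.center G)
    (hq : ¬ Cfsg.pCore q G ≤ Subgroup.center G) {u w : G} (hu : u ∈ Cfsg.pCore p G)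
    (hunc : u ∉ Subgroup.center G) (hw : w ∈ cen u) (hwq : IsPPow q w) :
    w ∈ Cfsg.pCore q G := by
  haveI := Fact.mk d.pp
  haveI := Fact.mk d.qp
  haveI hn := FittingCores.pCore_normal (G := G) p
  haveI hnq := FittingCores.pCore_normal (G := G) q
  have hqc : Cfsg.pCore q G ≤ cen w := (d.symm.p_centralizes hq hp hwq).1
  by_contra hwO
  obtain ⟨u2, hu2, hu2w⟩ : ∃ u2 ∈ Cfsg.pCore p G, w ∉ cen u2 := by
    by_contra hc
    push Not at hc
    exact hwO (d.mem_core hwq (fun t ht => mem_cen_symm (hc t ht)) hqc)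
  have hAc : ∀ a ∈ Cfsg.pCore p G, ∀ b ∈ Cfsg.pCore p G, a * b = b * a := fun a ha b hb =>
    mem_cen.1 ((d.p_centralizes hp hq (IsPPow.of_mem (FittingCores.pCore_isPGroup p) ha)).1 hb)
  have hAn : ∀ a ∈ Cfsg.pCore p G, a ∉ Subgroup.center G → sz a = n := by
    intro a ha hac
    have hap := IsPPow.of_mem (FittingCores.pCore_isPGroup p) ha
    refine (d.caseB.sz_of_n_dvd (d.n_dvd hap hac)).resolve_right fun e => ?_
    have hcle : ∀ t : G, IsPPow p t → t ∈ cen a := fun t ht =>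
      mem_cen_symm ((d.p_centralizes hp hq ht).1 ha)
    obtain ⟨P⟩ := (inferInstance : Nonempty (Sylow p G))
    exact not_dvd_sz P (fun t ht => hcle t (IsPPow.of_mem P.isPGroup' ht))
      (by rw [e]; exact dvd_mul_of_dvd_right d.pm n)
  obtain ⟨Q⟩ := (inferInstance : Nonempty (Sylow q G))
  obtain ⟨k, hk⟩ := exists_conj_mem Q hwq
  have hc : ∀ a b : G, a ∈ cen b ↔ k * a * k⁻¹ ∈ cen (k * b * k⁻¹) := fun a b => by
    rw [cen_conj, Subgroup.mem_map_equiv, MulAut.conj_symm_apply,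
      show k⁻¹ * (k * a * k⁻¹) * k = a by group]
  refine d.phi hAc hAn Q hk (fun t ht => ?_) (hn.conj_mem u hu k)
    (fun h => hunc ?_) ((hc w u).1 hw) (hn.conj_mem u2 hu2 k) fun h => hu2w ((hc w u2).2 h)
  · refine coprime_mem_sup_center d.qp d.pq.symm (FittingCores.pCore_isPGroup p)
      (d.comm_mem hp hq (hwq.conj k) (IsPPow.of_mem Q.isPGroup' ht))
      (IsPPow.of_mem Q.isPGroup' ?_)
    exact mul_mem (mul_mem (mul_mem ht hk) (inv_mem ht)) (inv_mem hk)
  · have := (inferInstance : (Subgroup.center G).Normal).conj_mem _ h k⁻¹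
    rwa [show k⁻¹ * (k * u * k⁻¹) * k⁻¹⁻¹ = u by group] at this

/-- All `p`-elements lie in the `p`-core. -/
theorem all_in_core (hp : ¬ Cfsg.pCore p G ≤ Subgroup.center G)
    (hq : ¬ Cfsg.pCore q G ≤ Subgroup.center G) {v : G} (hv : IsPPow p v) :
    v ∈ Cfsg.pCore p G := by
  haveI := Fact.mk d.pp
  haveI := Fact.mk d.qp
  haveI hn := FittingCores.pCore_normal (G := G) p
  haveI hnq := FittingCores.pCore_normal (G := G) q
  by_contra hvO
  have hnc : ∀ t : G, IsPPow p t → t ∉ Cfsg.pCore p G → t ∉ Subgroup.center G := fun t ht htO h =>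
    htO (d.symm.mem_core ht (by rw [cen_eq_top_iff.2 h]; exact le_top)
      (by rw [cen_eq_top_iff.2 h]; exact le_top))
  have hout : ∀ t : G, IsPPow p t → t ∉ Cfsg.pCore p G →
      ∃ w ∈ cen t, IsPPow q w ∧ w ∉ Cfsg.pCore q G := fun t ht htO => by
    obtain ⟨w, hw, hwq, hwnc⟩ := d.exists_q_cen ht (hnc t ht htO)
    exact ⟨w, hw, hwq, fun hwO => htO (d.symm.core_partner hq hp hwO hwnc (mem_cen_symm hw) ht)⟩
  obtain ⟨w, hw, hwq, hwO⟩ := hout v hv hvO
  obtain ⟨u, hu, hunc⟩ := SetLike.not_le_iff_exists.1 hp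
  have hup : IsPPow p u := IsPPow.of_mem (FittingCores.pCore_isPGroup p) hu
  have huv : Commute u v := (mem_cen.1 ((d.p_centralizes hp hq hv).1 hu)).symm
  have huvp : IsPPow p (u * v) := by
    obtain ⟨i, hi⟩ := hup
    obtain ⟨j, hj⟩ := hv
    exact ⟨i + j, by rw [huv.mul_pow, pow_add, pow_mul, hi, one_pow, one_mul, mul_comm, pow_mul, hj,
      one_pow]⟩
  have huvO : u * v ∉ Cfsg.pCore p G := fun h => hvO (by simpa using mul_mem (inv_mem hu) h)
  obtain ⟨w', hw', hw'q, hw'O⟩ := hout (u * v) huvp huvO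
  set r := u * w * u⁻¹ * w⁻¹ with hr
  have hrA : r ∈ Cfsg.pCore p G := by
    rw [hr, show u * w * u⁻¹ * w⁻¹ = u * (w * u⁻¹ * w⁻¹) by group]
    exact mul_mem hu (hn.conj_mem _ (inv_mem hu) w)
  have hrnc : r ∉ Subgroup.center G := fun h => hwO (d.core_partner hp hq hu hunc
    (mem_cen_symm (mem_cen_of_coprime h (hup.coprime d.pp d.qp d.pq hwq))) hwq)
  -- `w'` fixes `r`
  set k := w' * w * w'⁻¹ * w⁻¹ with hk
  have hk0 : k ∈ Cfsg.pCore p G ⊔ Subgroup.center G := d.comm_mem hp hq hwq hw'q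
  have hkc : ∀ t : G, IsPPow p t → k ∈ cen t := fun t ht =>
    (sup_le (d.p_centralizes hp hq ht).1 (center_le_cen t)) hk0
  have hrp : IsPPow p r := IsPPow.of_mem (FittingCores.pCore_isPGroup p) hrA
  have hvw : v * w * v⁻¹ = w := by rw [mem_cen.1 hw, mul_inv_cancel_right]
  have hrr : r = u * v * w * (u * v)⁻¹ * w⁻¹ := by
    rw [hr, show u * v * w * (u * v)⁻¹ = u * (v * w * v⁻¹) * u⁻¹ by group, hvw]
  have hfix : w' * r * w'⁻¹ = r := by
    have h1 : w' * (u * v) * w'⁻¹ = u * v := by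
      rw [← mem_cen.1 hw', mul_inv_cancel_right]
    have h2 : u * v * k = k * (u * v) := mem_cen.1 (hkc _ huvp)
    calc w' * r * w'⁻¹ = w' * (u * v) * w'⁻¹ * (k * w) * (w' * (u * v) * w'⁻¹)⁻¹ * (k * w)⁻¹ := by
          rw [hrr, hk]; group
      _ = (u * v) * k * w * (u * v)⁻¹ * (k * w)⁻¹ := by rw [h1]; group
      _ = k * r * k⁻¹ := by rw [h2, hrr]; group
      _ = r := by rw [← mem_cen.1 (hkc r hrp), mul_inv_cancel_right]
  exact hw'O (d.core_partner hp hq hrA hrnc (mem_cen.2 (mul_inv_eq_iff_eq_mul.1 hfix).symm) hw'q)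

theorem false_of : False := by
  haveI := Fact.mk d.pp
  haveI := Fact.mk d.qp
  by_cases hq : Cfsg.pCore q G ≤ Subgroup.center G
  · exact d.false_of_central hq
  by_cases hp : Cfsg.pCore p G ≤ Subgroup.center G
  · exact d.symm.false_of_central hp
  obtain ⟨x, hx, hxn⟩ := d.x_ex
  obtain ⟨Q⟩ := (inferInstance : Nonempty (Sylow q G))
  refine not_dvd_sz Q (a := x) (fun t ht => ?_) (hxn.symm ▸ d.qn)
  exact mem_cen.2 (d.cores_commute (d.all_in_core hp hq hx)
    (d.symm.all_in_core hq hp (IsPPow.of_mem Q.isPGroup' ht)))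

end PP

end Cfsg.Agent.ClassQuad
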