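import Cfsg.Agent.Lib.ClassSizeQuad.Kazarin
import Cfsg.Agent.Lib.ClassSizeQuad.Both
import Cfsg.Agent.Lib.ClassSizeQuad.PrimePowers

/-!
# Class sizes `1`, `n`, `m`, `n m` with `n`, `m` coprime: the group is nilpotent
-/

set_option autoImplicit false
set_option linter.style.haveILetI false

namespace Cfsg.Agent.ClassQuad

open Cfsg.Agent.ClassTriple

universe u

variable {G : Type u} [Group G] [Finite G] {n m : ℕ}

lemma eq_pow_of_unique {k q : ℕ} (hk : k ≠ 0) (h : ∀ r : ℕ, r.Prime → r ∣ k → r = q) :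
    ∃ a : ℕ, k = q ^ a := ⟨_, Nat.eq_prime_pow_of_unique_prime_dvd hk fun {d} hd hdk => h d hd hdk⟩

namespace CaseB

variable (hB : CaseB G n m)
include hB

theorem false : False := by
  obtain ⟨p, x, hp, hx, hxn⟩ := hB.toQuad.exists_primary_n
  obtain ⟨q, y, hq, hy, hym⟩ := hB.toQuad.symm.exists_primary_n
  have huniq : ∀ (r : ℕ) (t : G), r.Prime → IsPPow r t → sz t = n → r = p := fun r t hr ht htn =>
    hB.unique_p hr hp hq ht htn hx hxn hy hym
  have huniq' : ∀ (r : ℕ) (t : G), r.Prime → IsPPow r t → sz t = m → r = q := fun r t hr ht htm =>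
    hB.symm.unique_p hr hq hp ht htm hy hym hx hxn
  have hpm := hB.hn p x hp hx hxn
  have hqn := hB.hm q y hq hy hym
  have mkS : ∀ s : ℕ, s.Prime → s ∣ m → s ≠ p → Ctx G n m p q s := fun s hs hsm hsp =>
    { caseB := hB, pp := hp, qp := hq, sp := hs, x_ex := ⟨x, hx, hxn⟩, y_ex := ⟨y, hy, hym⟩,
      uniq := huniq, uniq' := huniq', sm := hsm,
      sT := fun t ht htnc => by
        rcases hB.sizes t with e | e | e | e
        · exact absurd (sz_eq_one_iff.1 e) htnc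
        · exact absurd (huniq s t hs ht e) hsp
        · exact absurd (hB.hm s t hs ht e) (hB.not_dvd_n_of_dvd_m hs hsm)
        · exact e }
  have mkR : ∀ r : ℕ, r.Prime → r ∣ n → r ≠ q → Ctx G m n q p r := fun r hr hrn hrq =>
    { caseB := hB.symm, pp := hq, qp := hp, sp := hr, x_ex := ⟨y, hy, hym⟩, y_ex := ⟨x, hx, hxn⟩,
      uniq := huniq', uniq' := huniq, sm := hrn,
      sT := fun t ht htnc => by
        rcases hB.sizes t with e | e | e | e
        · exact absurd (sz_eq_one_iff.1 e) htnc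
        · exact absurd (hB.hn r t hr ht e) (hB.not_dvd_m_of_dvd_n hr hrn)
        · exact absurd (huniq' r t hr ht e) hrq
        · exact e.trans (mul_comm _ _) }
  by_cases hs : ∃ s : ℕ, s.Prime ∧ s ∣ m ∧ s ≠ p
  · obtain ⟨s, hs1, hs2, hs3⟩ := hs
    by_cases hr : ∃ r : ℕ, r.Prime ∧ r ∣ n ∧ r ≠ q
    · obtain ⟨r, hr1, hr2, hr3⟩ := hr
      exact (mkS s hs1 hs2 hs3).false_of_both (mkR r hr1 hr2 hr3)
    · push Not at hr
      obtain ⟨a, ha⟩ := eq_pow_of_unique hB.n_pos.ne' hr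
      exact (mkS s hs1 hs2 hs3).false_of_n_pow ha
  · push Not at hs
    obtain ⟨b, hb⟩ := eq_pow_of_unique hB.toQuad.symm.n_pos.ne' hs
    by_cases hr : ∃ r : ℕ, r.Prime ∧ r ∣ n ∧ r ≠ q
    · obtain ⟨r, hr1, hr2, hr3⟩ := hr
      exact (mkR r hr1 hr2 hr3).false_of_n_pow hb
    · push Not at hr
      exact (PP.mk hB hp hq (hB.ne_of hp hpm hqn) (eq_pow_of_unique hB.n_pos.ne' hr) ⟨b, hb⟩
        ⟨x, hx, hxn⟩ ⟨y, hy, hym⟩ : PP G n m p q).false_of

end CaseB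

theorem Quad.nilpotent (h : Quad G n m) :
    Group.IsNilpotent G ∧ IsPrimePow n ∧ IsPrimePow m := by
  obtain ⟨p, x, hp, hx, hxn⟩ := h.exists_primary_n
  obtain ⟨q, y, hq, hy, hym⟩ := h.symm.exists_primary_n
  have fin : ∀ {p q : ℕ} {x y : G}, p.Prime → q.Prime → IsPPow p x → sz x = n → IsPPow q y →
      sz y = m → ¬ p ∣ m → Group.IsNilpotent G ∧ IsPrimePow n ∧ IsPrimePow m := by
    intro p q x y hp hq hx hxn hy hym hpm
    obtain ⟨hqp, b, hb⟩ := h.caseA hp hq hx hxn hpm hy hym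
    have hb0 : b ≠ 0 := fun e => by subst e; simp at hb; exact h.one_lt_m.ne' hb
    have hqn : ¬ q ∣ n := h.not_dvd_n_of_dvd_m hq (hb ▸ dvd_pow_self q hb0)
    obtain ⟨-, a, ha⟩ := h.symm.caseA hq hp hy hym hqn hx hxn
    have ha0 : a ≠ 0 := fun e => by subst e; simp at ha; exact h.one_lt_n.ne' ha
    exact ⟨h.nilpotent_of_caseA hp hq hqp.symm hx hxn hy hym ha hb,
      ha ▸ hp.isPrimePow.pow ha0, hb ▸ hq.isPrimePow.pow hb0⟩
  by_cases hn : ∃ (p' : ℕ) (x' : G), p'.Prime ∧ IsPPow p' x' ∧ sz x' = n ∧ ¬ p' ∣ m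
  · obtain ⟨p', x', h1, h2, h3, h4⟩ := hn
    exact fin h1 hq h2 h3 hy hym h4
  by_cases hm : ∃ (q' : ℕ) (y' : G), q'.Prime ∧ IsPPow q' y' ∧ sz y' = m ∧ ¬ q' ∣ n
  · obtain ⟨q', y', h1, h2, h3, h4⟩ := hm
    obtain ⟨hpq, a, ha⟩ := h.symm.caseA h1 hp h2 h3 h4 hx hxn
    have ha0 : a ≠ 0 := fun e => by subst e; simp at ha; exact h.one_lt_n.ne' ha
    exact fin hp h1 hx hxn h2 h3 (h.not_dvd_m_of_dvd_n hp (ha ▸ dvd_pow_self p ha0))
  push Not at hn hm
  exact (CaseB.false ⟨h, hn, hm⟩).elim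

end Cfsg.Agent.ClassQuad
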