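import Cfsg.Agent.Lib.ClassSizeQuad.Torus
import Cfsg.Agent.S4037

/-!
# Class sizes `1`, `n`, `m`, `n m`: `n` a prime power, `m` not
-/

set_option autoImplicit false
set_option linter.style.haveILetI false
set_option linter.unusedSectionVars false

namespace Cfsg.Agent.ClassQuad

open Cfsg.Agent.ClassTriple

universe u

variable {G : Type u} [Group G] [Finite G] {n m p q s : ℕ}

lemma dvd_of_zpow_mem {p : ℕ} (hp : p.Prime) {H : Subgroup G} {g : G} (hg : g ∉ H)
    (hgp : g ^ p ∈ H) {k : ℤ} (hk : g ^ k ∈ H) : (p : ℤ) ∣ k := by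
  by_contra hd
  obtain ⟨u, v, huv⟩ : IsCoprime (p : ℤ) k :=
    (Nat.prime_iff_prime_int.1 hp).coprime_iff_not_dvd.2 hd
  apply hg
  have : g = (g ^ p) ^ u * (g ^ k) ^ v := by
    rw [← zpow_natCast, ← zpow_mul, ← zpow_mul, ← zpow_add, mul_comm (p : ℤ), mul_comm k, huv,
      zpow_one]
  rw [this]
  exact mul_mem (zpow_mem hgp u) (zpow_mem hk v)

lemma mem_pCore_of_fitting {p : ℕ} [Fact p.Prime] {a : G} (ha : IsPPow p a)
    (haF : a ∈ Cfsg.fittingSubgroup G) : a ∈ Cfsg.pCore p G := by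
  haveI := FittingCores.fitting_normal (G := G)
  haveI := FittingCores.fitting_nilpotent (G := G)
  have ha' : IsPPow p (⟨a, haF⟩ : Cfsg.fittingSubgroup G) :=
    ha.imp fun i hi => Subtype.ext (by simpa using hi)
  obtain ⟨S, hS⟩ := (ha'.isPGroup_zpowers Fact.out).exists_le_sylow
  exact FittingCores.sylow_le_pCore_of_nilpotent inferInstance p S
    ⟨⟨a, haF⟩, hS (Subgroup.mem_zpowers _), rfl⟩

lemma subgroup_nc_of_not_center {a b : G} (h : a ∉ Subgroup.center G) (y : G)
    (hb : b = y * a * y⁻¹) : b ∉ Subgroup.center G := fun hz => h (by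
  have := (inferInstance : (Subgroup.center G).Normal).conj_mem _ hz y⁻¹
  rwa [hb, show y⁻¹ * (y * a * y⁻¹) * y⁻¹⁻¹ = a by group] at this)

lemma normalizer_le_normalizer_cent {F : Subgroup G} :
    Subgroup.normalizer (F : Set G) ≤
      Subgroup.normalizer ((Subgroup.centralizer (F : Set G) : Subgroup G) : Set G) := by
  intro h hh
  have key : ∀ h' ∈ Subgroup.normalizer (F : Set G), ∀ z ∈ Subgroup.centralizer (F : Set G),
      h' * z * h'⁻¹ ∈ Subgroup.centralizer (F : Set G) := fun h' hh' z hz =>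
    Subgroup.mem_centralizer_iff.2 fun f hf => by
      have h1 := Subgroup.mem_centralizer_iff.1 hz (h'⁻¹ * f * h')
        (by simpa using (Subgroup.mem_normalizer_iff.1 (inv_mem hh') f).1 hf)
      calc f * (h' * z * h'⁻¹) = h' * ((h'⁻¹ * f * h') * z) * h'⁻¹ := by group
        _ = h' * (z * (h'⁻¹ * f * h')) * h'⁻¹ := by rw [h1]
        _ = h' * z * h'⁻¹ * f := by group
  refine Subgroup.mem_normalizer_iff.2 fun z => ⟨key h hh z, fun hz => ?_⟩
  have := key h⁻¹ (inv_mem hh) _ hz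
  rwa [show h⁻¹ * (h * z * h⁻¹) * h⁻¹⁻¹ = z by group] at this

namespace Ctx

variable (c : Ctx G n m p q s)
include c

theorem x_mem_pCore {a : ℕ} (hna : n = q ^ a) {x : G} (hx : IsPPow p x) (hxn : sz x = n) :
    x ∈ Cfsg.pCore p G := by
  haveI := Fact.mk c.pp
  haveI := Fact.mk c.sp
  obtain ⟨v, hvx, hv, hvnc⟩ := c.exists_s_cen x
  have hxT : x ∈ cen v := mem_cen_symm hvx
  obtain ⟨g, hgx, hg, hgN, hgT, hgs, S, hS, hSx, hgS, hTS⟩ := c.exists_g hv hvnc hxn hx hvx
  set Q := S ⊓ cen v with hQ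
  have hgQ : g ∈ Subgroup.normalizer (Q : Set G) :=
    Subgroup.mem_normalizer_iff.2 fun z => by
      rw [hQ, Subgroup.mem_inf, Subgroup.mem_inf, ← (Subgroup.mem_normalizer_iff.1 hgN z),
        ← Subgroup.mem_normalizer_iff.1 (S.le_normalizer hgS) z]
  obtain ⟨u, huQ, hunc, hus, huc⟩ := exists_special c.sp (T := Subgroup.zpowers g ⊔ Q)
    (hS.to_le (sup_le (Subgroup.zpowers_le.2 hgS) inf_le_left)) le_sup_right
    (sup_le (Subgroup.zpowers_le.2 hgQ) Q.le_normalizer) (fun hle => hvnc (hle ⟨hTS v (mem_cen_self v) hv,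
      mem_cen_self v⟩))
  have hind : ∀ i : ℤ, u * (g ^ i)⁻¹ ∉ Subgroup.center G := fun i hi => by
    have h1 : g ^ i ∈ cen v := by
      have h2 := (cen v).mul_mem ((cen v).inv_mem (center_le_cen v hi)) huQ.2
      simpa using h2
    obtain ⟨k, rfl⟩ := dvd_of_zpow_mem c.sp hgT (center_le_cen v hgs) h1
    refine hunc ?_
    have h3 : g ^ ((s : ℤ) * k) ∈ Subgroup.center G := by
      rw [zpow_mul, zpow_natCast]; exact zpow_mem hgs k
    simpa using mul_mem hi h3
  have hcov : ∀ ℓ : ℕ, ℓ.Prime → ℓ ≠ s → Cfsg.pCore ℓ G ≤ cen x := fun ℓ hℓ hℓs => by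
    haveI := Fact.mk hℓ
    haveI := FittingCores.pCore_normal (G := G) ℓ
    refine covering c.sp hS hgS huQ.1 hgs hus ?_ (fun hz => hgT (center_le_cen v hz)) hind
      (Subgroup.le_normalizer_of_normal (Subgroup.mem_top _))
      (Subgroup.le_normalizer_of_normal (Subgroup.mem_top _)) ?_ (center_le_cen x)
      fun e he hep henc => ?_
    · exact huc g (Subgroup.mem_sup_left (Subgroup.mem_zpowers g))
    · obtain ⟨k, hk⟩ := (FittingCores.pCore_isPGroup (G := G) ℓ).exists_card_eq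
      rw [hk]; exact ((Nat.coprime_primes hℓ c.sp).2 hℓs).pow_left k
    · refine inf_le_right.trans (c.s_le_of_mem hep henc ?_ hx)
      exact (Subgroup.closure_le (K := cen x)).2 (by
        rintro _ (rfl | rfl)
        · exact hgx
        · exact hSx huQ.1) he
  have hF : Cfsg.fittingSubgroup G ≤ cen x := by
    rw [FittingCores.fitting_eq_iSup_pCore]
    refine iSup_le fun ℓ => ?_
    by_cases h1 : (ℓ : ℕ) = s
    · obtain ⟨S', hS'⟩ := exists_sylow_le (p := s) (H := cen x)
        (by show ¬ s ∣ sz x; rw [hxn]; exact c.sn)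
      rw [h1]
      exact (FittingCores.pCore_le_sylow S').trans hS'
    · exact hcov ℓ ℓ.2 h1
  have hsol : Group.IsSolvable (Subgroup.normalClosure ({x} : Set G)) := by
    refine S4037.result x c.qp a ?_
    have h1 := Counting.card_carrier_mul x
    rw [Nat.card_coe_set_eq, ← (cen x).index_mul_card] at h1
    rw [Nat.eq_of_mul_eq_mul_right Nat.card_pos h1]
    exact hxn.trans hna
  set X := Subgroup.normalClosure ({x} : Set G)
  haveI := hsol
  haveI : X.Normal := Subgroup.normalClosure_normal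
  have hxX : x ∈ X := Subgroup.subset_normalClosure rfl
  have hxFX : (⟨x, hxX⟩ : X) ∈ Cfsg.fittingSubgroup X := by
    refine FittingCores.centralizer_fitting_le (Subgroup.mem_centralizer_iff.2 fun z hz => ?_)
    exact Subtype.ext (mem_cen.1
      (hF (FittingCores.fitting_map_subtype_le inferInstance ⟨z, hz, rfl⟩))).symm
  exact mem_pCore_of_fitting hx (FittingCores.fitting_map_subtype_le inferInstance ⟨_, hxFX, rfl⟩)

theorem false_of_n_pow {a : ℕ} (hna : n = q ^ a) : False := by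
  haveI := Fact.mk c.pp
  haveI := Fact.mk c.qp
  haveI := Fact.mk c.sp
  obtain ⟨y, hy, hym⟩ := c.y_ex
  obtain ⟨v, hvy, hv, hvnc⟩ := c.exists_s_cen y
  have hyT : y ∈ cen v := mem_cen_symm hvy
  obtain ⟨x, hxT, hx, hxn⟩ := c.exists_x hv hvnc
  have hvx : v ∈ cen x := mem_cen_symm hxT
  have hTx := c.T_le hv hvnc hxT hx
  have hync : y ∉ Subgroup.center G := c.caseB.toQuad.symm.not_center_of_n hym
  have hTy : cen v ≤ cen y := c.comm hv hvnc hyT
  have hxy := c.T_eq hv hvnc hxT hx hxn hyT hy hync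
  have hCy : cen x ⊓ cen y = cen v := by
    rw [← cen_mul_eq (mem_cen.1 (hTx hyT)) (hx.coprime c.pp c.qp c.pq hy), hxy]
  set A := Cfsg.pCore p G with hA
  haveI hAn : A.Normal := FittingCores.pCore_normal p
  have hAp : IsPGroup p A := FittingCores.pCore_isPGroup p
  have hxA : x ∈ A := c.x_mem_pCore hna hx hxn
  have hpn : ¬ p ∣ n := c.caseB.not_dvd_n_of_dvd_m c.pp c.pm
  have hAx : A ≤ cen x := by
    obtain ⟨P, hP, hxP⟩ := exists_sylow_le_cen hx (hxn ▸ hpn)
    exact (FittingCores.pCore_le_sylow P).trans hP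
  -- `A` is not inside the torus
  have hAT : ¬ A ≤ cen v := by
    intro hle
    set L := Subgroup.centralizer (A : Set G) with hL
    haveI : L.Normal := by rw [hL]; infer_instance
    have hTL : cen v ≤ L := fun t ht => Subgroup.mem_centralizer_iff.2 fun z hz =>
      mem_cen.1 (c.comm hv hvnc (hle hz) ht)
    have hLx : L ≤ cen x := fun t ht => mem_cen.2 (Subgroup.mem_centralizer_iff.1 ht x hxA)
    have hsL : ∀ e : G, IsPPow s e → e ∈ L := by
      intro e he
      by_cases henc : e ∈ Subgroup.center G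
      · exact Subgroup.mem_centralizer_iff.2 fun z _ => Subgroup.mem_center_iff.1 henc z
      obtain ⟨S, hS⟩ := exists_sylow_le (p := s) (H := cen x)
        (by show ¬ s ∣ sz x; rw [hxn]; exact c.sn)
      obtain ⟨k, hk⟩ := exists_conj_mem S he
      have hk' : k * e * k⁻¹ ∉ Subgroup.center G := subgroup_nc_of_not_center henc k rfl
      obtain ⟨d, hd, hde⟩ := c.conj_tori hv hvnc hx hxn hvx (he.conj k) hk' (hS hk)
      have h1 : k * e * k⁻¹ ∈ L := by
        have h2 := mem_cen_self (k * e * k⁻¹)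
        rw [hde, cen_conj] at h2
        obtain ⟨t, ht, hte⟩ := Subgroup.mem_map.1 h2
        rw [← hte]
        exact (inferInstance : L.Normal).conj_mem _ (hTL ht) d
      have := (inferInstance : L.Normal).conj_mem _ h1 k⁻¹
      rwa [show k⁻¹ * (k * e * k⁻¹) * k⁻¹⁻¹ = e by group] at this
    obtain ⟨Q⟩ := (inferInstance : Nonempty (Sylow q G))
    refine not_dvd_sz Q (a := x) (fun w hw => ?_) (by rw [hxn]; exact c.qn)
    obtain ⟨e, hew, he, henc⟩ := c.exists_s_cen w
    exact c.s_le_of_mem he henc (hLx (hsL e he)) hx (mem_cen_symm hew)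
  -- elements of order `ℓ` in the torus form a line modulo the centre
  have hline : ∀ ℓ : ℕ, ℓ.Prime → ℓ ≠ p →
      (∀ e ∈ cen v, IsPPow ℓ e → e ∉ Subgroup.center G → cen x ⊓ cen e ≤ cen v) →
      ∀ z ∈ cen v, IsPPow ℓ z → z ∉ Subgroup.center G → z ^ ℓ ∈ Subgroup.center G →
      Line (cen v) ℓ z := by
    intro ℓ hℓ hℓp hcen z hz hzp hznc hzl
    refine ⟨hz, hzp, hznc, hzl, fun u hu hup hul => ?_⟩
    by_contra hno
    push Not at hno
    haveI := Fact.mk hℓ
    obtain ⟨R⟩ := (inferInstance : Nonempty (Sylow ℓ (cen v)))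
    have hR : ∀ t ∈ cen v, IsPPow ℓ t → t ∈ (R : Subgroup (cen v)).map (cen v).subtype :=
      fun t ht htp => mem_of_normalizes hℓ (R.isPGroup'.map _) (Subgroup.map_subtype_le _)
        (by rw [Subgroup.card_map_of_injective (cen v).subtype_injective, R.card_eq_multiplicity,
          hℓ.factorization_pow, Finsupp.single_eq_same]) htp ht
        (mem_normalizer_of_commute ((Subgroup.map_subtype_le _).trans (c.comm hv hvnc ht)))
    refine hAT (covering hℓ (R.isPGroup'.map _) (hR z hz hzp) (hR u hu hup) hzl hul ?_ hznc hno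
      (Subgroup.le_normalizer_of_normal (Subgroup.mem_top _))
      (Subgroup.le_normalizer_of_normal (Subgroup.mem_top _)) ?_ (center_le_cen v)
      fun e he hep henc => ?_)
    · rw [mem_cen.1 (c.comm hv hvnc hz hu), mul_inv_cancel_right, mul_inv_cancel]; exact one_mem _
    · obtain ⟨k, hk⟩ := hAp.exists_card_eq
      rw [hk]; exact ((Nat.coprime_primes c.pp hℓ).2 hℓp.symm).pow_left k
    · refine le_trans (inf_le_inf_right _ hAx) (hcen e ?_ hep henc)
      exact (Subgroup.closure_le (K := cen v)).2 (by rintro _ (rfl | rfl) <;> assumption) he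
  -- the torus is normal in the centralizer of `y`
  obtain ⟨h, hh, hhN, hhT⟩ : ∃ h : G, IsPPow q h ∧
      h ∈ Subgroup.normalizer ((cen v : Subgroup G) : Set G) ∧ h ∉ cen v := by
    set F := A ⊓ cen y with hF
    have hFT : F ≤ cen v := hCy ▸ le_inf (inf_le_left.trans hAx) inf_le_right
    have heq : cen y ⊓ Subgroup.centralizer (F : Set G) = cen v := by
      refine le_antisymm (hCy ▸ le_inf (fun t ht => mem_cen.2 ?_) inf_le_left)
        (le_inf hTy fun t ht => Subgroup.mem_centralizer_iff.2 fun z hz =>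
          mem_cen.1 (c.comm hv hvnc (hFT hz) ht))
      exact Subgroup.mem_centralizer_iff.1 ht.2 x ⟨hxA, mem_cen_symm (hTx hyT)⟩
    obtain ⟨Q, hQ⟩ := exists_sylow_le (p := q) (H := cen y)
      (by show ¬ q ∣ sz y; rw [hym]; exact c.caseB.not_dvd_m_of_dvd_n c.qp c.qn)
    obtain ⟨h, hhQ, hhT⟩ := SetLike.not_le_iff_exists.1
      (show ¬ (Q : Subgroup G) ≤ cen v from fun hle => not_dvd_sz Q hle
        (by rw [c.sT v hv hvnc]; exact dvd_mul_of_dvd_left c.qn m))
    have hhy : h ∈ cen y := hQ hhQ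
    refine ⟨h, IsPPow.of_mem Q.isPGroup' hhQ, ?_, hhT⟩
    have h1 : h ∈ Subgroup.normalizer ((cen y : Subgroup G) : Set G) := (cen y).le_normalizer hhy
    have h2 : h ∈ Subgroup.normalizer (F : Set G) := Subgroup.mem_normalizer_iff.2 fun z => by
      rw [hF, Subgroup.mem_inf, Subgroup.mem_inf, ← Subgroup.mem_normalizer_iff.1 h1 z,
        ← Subgroup.mem_normalizer_iff.1
          (Subgroup.le_normalizer_of_normal (H := A) (K := ⊤) (Subgroup.mem_top h)) z]
    refine Subgroup.mem_normalizer_iff.2 fun z => ?_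
    rw [← heq, Subgroup.mem_inf, Subgroup.mem_inf, ← Subgroup.mem_normalizer_iff.1 h1 z,
      ← Subgroup.mem_normalizer_iff.1 (normalizer_le_normalizer_cent h2) z]
  -- `q ∣ s - 1`
  obtain ⟨z, hzT, hzs, hznc, hzp⟩ := exists_omega (H := cen v) (mem_cen_self v) hv hvnc
  have hLs := hline s c.sp c.sp' (fun e he hes henc => inf_le_right.trans
    (c.cen_of_s hv hvnc he hes henc).le) z hzT hzs hznc hzp
  have hzconj : h * z * h⁻¹ ∈ cen v := (Subgroup.mem_normalizer_iff.1 hhN z).1 hzT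
  have hqs : q ∣ s - 1 := by
    refine dvd_pred_of_line c.sp c.qp hznc hzp hh
      (hLs.2.2.2.2 _ hzconj (hzs.conj h) ?_) fun hc => hhT ?_
    · rw [conj_pow]; exact (inferInstance : (Subgroup.center G).Normal).conj_mem _ hzp h
    · rw [← c.cen_of_s hv hvnc hzT hzs hznc]
      exact mem_cen_of_coprime hc (hh.coprime c.qp c.sp c.sq.symm hzs)
  -- `s ∣ q - 1`
  obtain ⟨g, hgx, hg, hgN, hgT, -, -⟩ := c.exists_g hv hvnc hxn hx hvx
  obtain ⟨w, hwT, hwq, hwnc, hwp⟩ := exists_omega (H := cen v) hyT hy hync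
  have hLq := hline q c.qp c.pq.symm (fun e he heq' henc => by
    rw [← c.T_eq hv hvnc hxT hx hxn he heq' henc,
      cen_mul_eq (mem_cen.1 (hTx he)) (hx.coprime c.pp c.qp c.pq heq')]) w hwT hwq hwnc hwp
  have hwconj : g * w * g⁻¹ ∈ cen v := (Subgroup.mem_normalizer_iff.1 hgN w).1 hwT
  have hsq : s ∣ q - 1 := by
    refine dvd_pred_of_line c.qp c.sp hwnc hwp hg
      (hLq.2.2.2.2 _ hwconj (hwq.conj g) ?_)
      (c.g_fpf_q hv hvnc hx hxn hxT hgx hg hgT hwT hwq hwnc)
    rw [conj_pow]; exact (inferInstance : (Subgroup.center G).Normal).conj_mem _ hwp g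
  have h1 := c.sp.two_le
  have h2 := c.qp.two_le
  have h3 := Nat.le_of_dvd (by omega) hqs
  have h4 := Nat.le_of_dvd (by omega) hsq
  omega

end Ctx

end Cfsg.Agent.ClassQuad
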