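import Cfsg.Agent.Lib.ClassSizeQuad.CaseB

/-!
# Class sizes `1`, `n`, `m`, `n m`: the centralizers of elements of class size `n m`
-/

set_option autoImplicit false
set_option linter.style.haveILetI false
set_option linter.unusedSectionVars false

namespace Cfsg.Agent.ClassQuad

open Cfsg.Agent.ClassTriple

universe u

variable {G : Type u} [Group G] [Finite G] {n m : ℕ}

/-- Case B with the two primes of the elements of size `n` and `m`, and a further prime of `m`. -/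
structure Ctx (G : Type u) [Group G] (n m p q s : ℕ) : Prop where
  caseB : CaseB G n m
  pp : p.Prime
  qp : q.Prime
  sp : s.Prime
  x_ex : ∃ x : G, IsPPow p x ∧ sz x = n
  y_ex : ∃ y : G, IsPPow q y ∧ sz y = m
  uniq : ∀ (r : ℕ) (x : G), r.Prime → IsPPow r x → sz x = n → r = p
  uniq' : ∀ (r : ℕ) (y : G), r.Prime → IsPPow r y → sz y = m → r = q
  sm : s ∣ m
  sT : NMType G n m s

/-- A line of elements of order `r` modulo the centre. -/
def Line (T : Subgroup G) (r : ℕ) (z : G) : Prop :=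
  z ∈ T ∧ IsPPow r z ∧ z ∉ Subgroup.center G ∧ z ^ r ∈ Subgroup.center G ∧
    ∀ u ∈ T, IsPPow r u → u ^ r ∈ Subgroup.center G →
      ∃ i : ℤ, u * (z ^ i)⁻¹ ∈ Subgroup.center G

lemma exists_omega {r : ℕ} {H : Subgroup G} {a : G} (ha : a ∈ H) (har : IsPPow r a)
    (hnc : a ∉ Subgroup.center G) :
    ∃ z ∈ H, IsPPow r z ∧ z ∉ Subgroup.center G ∧ z ^ r ∈ Subgroup.center G := by
  obtain ⟨i, hi1, hi2⟩ := exists_last_pow har hnc
  exact ⟨_, H.pow_mem ha _, har.pow _, hi1, hi2⟩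

namespace Ctx

variable {p q s : ℕ} (c : Ctx G n m p q s)
include c

lemma pm : p ∣ m := let ⟨x, hx, hxn⟩ := c.x_ex; c.caseB.hn p x c.pp hx hxn

lemma qn : q ∣ n := let ⟨y, hy, hym⟩ := c.y_ex; c.caseB.hm q y c.qp hy hym

lemma pq : p ≠ q := c.caseB.ne_of c.pp c.pm c.qn

lemma sq : s ≠ q := c.caseB.ne_of c.sp c.sm c.qn

lemma sn : ¬ s ∣ n := c.caseB.not_dvd_n_of_dvd_m c.sp c.sm

lemma sp' : s ≠ p := fun e => by
  obtain ⟨x, hx, hxn⟩ := c.x_ex
  have h1 := c.sT x (e ▸ hx) (c.caseB.toQuad.not_center_of_n hxn)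
  rw [hxn] at h1
  exact c.caseB.one_lt_m.ne (Nat.eq_of_mul_eq_mul_left c.caseB.n_pos ((mul_one n).trans h1))

/-- Every centralizer contains non-central `s`-elements. -/
theorem exists_s_cen (g : G) : ∃ v ∈ cen g, IsPPow s v ∧ v ∉ Subgroup.center G := by
  haveI := Fact.mk c.sp
  obtain ⟨x₀, hx₀⟩ := c.caseB.ex_m
  obtain ⟨S⟩ := (inferInstance : Nonempty (Sylow s G))
  obtain ⟨v, hvS, hv⟩ := SetLike.not_le_iff_exists.1
    (show ¬ (S : Subgroup G) ≤ Subgroup.center G from fun hle =>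
      not_dvd_sz S (hle.trans (center_le_cen x₀)) (by rw [hx₀]; exact c.sm))
  have hvs : IsPPow s v := IsPPow.of_mem S.isPGroup' hvS
  refine exists_ppow_not_center c.sp (lt_of_lt_of_le
    (fac_center_lt c.sp (center_le_cen v) (mem_cen_self v) hvs hv) (fac_cen_anti s ?_))
  rw [c.sT v hvs hv]
  exact (Nat.factorization_le_iff_dvd Subgroup.index_ne_zero_of_finite
    (mul_ne_zero c.caseB.n_pos.ne' c.caseB.toQuad.symm.n_pos.ne')).2 (c.caseB.sz_dvd_nm g) s

variable {v : G} (hv : IsPPow s v) (hvnc : v ∉ Subgroup.center G)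
include hv hvnc

lemma le_cen_of_ne {r : ℕ} {a : G} (hr : r.Prime) (hrs : r ≠ s) (ha : a ∈ cen v)
    (har : IsPPow r a) : cen v ≤ cen a :=
  c.caseB.toQuad.cen_le_of_nm (c.sT v hv hvnc) ha (hv.coprime c.sp hr hrs.symm har)

theorem exists_x : ∃ x ∈ cen v, IsPPow p x ∧ sz x = n := by
  haveI := Fact.mk c.sp
  obtain ⟨x, hx, hxn⟩ := c.x_ex
  obtain ⟨S, hS⟩ := exists_sylow_le (p := s) (H := cen x)
    (by show ¬ s ∣ sz x; rw [hxn]; exact c.sn)
  obtain ⟨y, hy⟩ := exists_conj_mem S hv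
  refine ⟨y⁻¹ * x * y, mem_cen.2 ?_, by simpa using hx.conj y⁻¹, ?_⟩
  · have h1 := mem_cen.1 (hS hy)
    calc v * (y⁻¹ * x * y) = y⁻¹ * ((y * v * y⁻¹) * x) * y := by group
      _ = y⁻¹ * (x * (y * v * y⁻¹)) * y := by rw [h1]
      _ = y⁻¹ * x * y * v := by group
  · have := sz_conj y⁻¹ x; simp only [inv_inv] at this; rw [this, hxn]

lemma T_le {x : G} (hxT : x ∈ cen v) (hx : IsPPow p x) : cen v ≤ cen x :=
  c.le_cen_of_ne hv hvnc c.pp c.sp'.symm hxT hx

lemma fac_q {x : G} (hxn : sz x = n) :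
    (Nat.card (cen x)).factorization q ≤ (Nat.card (cen v)).factorization q :=
  fac_cen_anti q (by
    rw [c.sT v hv hvnc, hxn, Nat.factorization_mul c.caseB.n_pos.ne'
      c.caseB.toQuad.symm.n_pos.ne', Finsupp.add_apply,
      Nat.factorization_eq_zero_of_not_dvd (c.caseB.not_dvd_m_of_dvd_n c.qp c.qn), add_zero])

theorem exists_w : ∃ w ∈ cen v, IsPPow q w ∧ w ∉ Subgroup.center G := by
  obtain ⟨x, hx, hxn⟩ := c.x_ex
  obtain ⟨y, hy, hym⟩ := c.y_ex
  obtain ⟨w, hw, hwq, hwnc⟩ := c.caseB.exists_q_in_C c.pp c.qp hx hxn hy hym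
  exact exists_ppow_not_center c.qp (lt_of_lt_of_le
    (fac_center_lt c.qp (center_le_cen x) hw hwq hwnc) (c.fac_q hv hvnc hxn))

theorem T_eq {x w : G} (hxT : x ∈ cen v) (hx : IsPPow p x) (hxn : sz x = n) (hw : w ∈ cen v)
    (hwq : IsPPow q w) (hwnc : w ∉ Subgroup.center G) : cen (x * w) = cen v := by
  have hwx : w ∈ cen x := c.T_le hv hvnc hxT hx hw
  obtain ⟨h1, h2⟩ := c.caseB.rel_q c.pp c.qp hx hxn c.qn hwx hwq hwnc
  exact (c.caseB.toQuad.nm_min (a := v) (b := x * w)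
    (h2 ▸ le_inf (c.T_le hv hvnc hxT hx) (c.le_cen_of_ne hv hvnc c.qp c.sq.symm hw hwq)) h1).symm

/-- Centralizers of non-central `s`-elements are commutative. -/
theorem comm {a : G} (ha : a ∈ cen v) : cen v ≤ cen a := by
  intro b hb
  refine mem_cen_symm (mem_of_primary (K := cen b) fun r hr a' ha' har => ?_)
  have haT : a' ∈ cen v := Subgroup.zpowers_le.2 ha ha'
  suffices cen v ≤ cen a' from mem_cen_symm (this hb)
  by_cases hrs : r = s
  · subst hrs
    obtain ⟨x, hxT, hx, hxn⟩ := c.exists_x hv hvnc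
    obtain ⟨w, hw, hwq, hwnc⟩ := c.exists_w hv hvnc
    by_cases hac : a' ∈ Subgroup.center G
    · rw [cen_eq_top_iff.2 hac]; exact le_top
    have hTeq := c.T_eq hv hvnc hxT hx hxn hw hwq hwnc
    have hxw : Commute x w := mem_cen.1 (c.T_le hv hvnc hxT hx hw)
    obtain ⟨i, hi⟩ := har.orderOf_eq hr
    have hco : (orderOf a').Coprime (orderOf (x * w)) := by
      rw [hi]
      exact ((Nat.Coprime.coprime_dvd_left hxw.orderOf_mul_dvd_mul_orderOf
        ((coprime_of_ppow_of_ne c.pp hr c.sp'.symm hx).mul_left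
          (coprime_of_ppow_of_ne c.qp hr c.sq.symm hwq))).symm).pow_left i
    have h1 : x * w ∈ cen a' := mem_cen_symm (hTeq.symm ▸ haT)
    have h2 := c.caseB.toQuad.cen_le_of_nm (c.sT a' har hac) h1 hco
    exact (c.caseB.toQuad.nm_min (h2.trans hTeq.le) (c.sT v hv hvnc)).ge
  · exact c.le_cen_of_ne hv hvnc hr hrs haT har

theorem cen_of_s {e : G} (he : e ∈ cen v) (hes : IsPPow s e) (henc : e ∉ Subgroup.center G) :
    cen e = cen v :=
  (c.caseB.toQuad.nm_min (c.comm hv hvnc he) (c.sT e hes henc)).symm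

lemma s_le_of_mem {x : G} (hvx : v ∈ cen x) (hx : IsPPow p x) : cen v ≤ cen x :=
  c.T_le hv hvnc (mem_cen_symm hvx) hx

/-- The centralizers of non-central `s`-elements of `cen x` are conjugate in `cen x`. -/
theorem conj_tori {x v' : G} (hx : IsPPow p x) (hxn : sz x = n) (hvx : v ∈ cen x)
    (hv' : IsPPow s v') (hv'nc : v' ∉ Subgroup.center G) (hv'x : v' ∈ cen x) :
    ∃ y ∈ cen x, cen v' = cen (y * v * y⁻¹) := by
  haveI := Fact.mk c.qp
  obtain ⟨w, hw, hwq, hwnc⟩ := c.exists_w hv' hv'nc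
  have hTx := c.s_le_of_mem hv hvnc hvx hx
  obtain ⟨Q⟩ := (inferInstance : Nonempty (Sylow q (cen v)))
  set Q₁ := ((Q : Subgroup (cen v)).map (cen v).subtype).subgroupOf (cen x) with hQ₁
  have hle : (Q : Subgroup (cen v)).map (cen v).subtype ≤ cen x :=
    (Subgroup.map_subtype_le _).trans hTx
  have hcard : Nat.card Q₁ = q ^ (Nat.card (cen x)).factorization q := by
    rw [hQ₁, Nat.card_congr (Subgroup.subgroupOfEquivOfLe hle).toEquiv,
      Subgroup.card_map_of_injective (cen v).subtype_injective, Q.card_eq_multiplicity,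
      le_antisymm (fac_le_of_le q hTx) (c.fac_q hv hvnc hxn)]
  have hwx : w ∈ cen x := c.T_le hv' hv'nc (mem_cen_symm hv'x) hx hw
  obtain ⟨y, hy⟩ := exists_conj_mem (Sylow.ofCard Q₁ hcard)
    (a := (⟨w, hwx⟩ : cen x)) (hwq.imp fun k hk => Subtype.ext (by simpa using hk))
  have hyT : (y : G) * w * (y : G)⁻¹ ∈ cen v := by
    obtain ⟨a, -, ha⟩ := Subgroup.mem_map.1 (Subgroup.mem_subgroupOf.1
      (show y * ⟨w, hwx⟩ * y⁻¹ ∈ Q₁ from hy))
    have : (a : G) = (y : G) * w * (y : G)⁻¹ := by simpa using ha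
    exact this ▸ a.2
  have hnc : (y : G) * w * (y : G)⁻¹ ∉ Subgroup.center G := fun hz => hwnc (by
    have := (inferInstance : (Subgroup.center G).Normal).conj_mem _ hz (y : G)⁻¹
    rwa [show (y : G)⁻¹ * ((y : G) * w * (y : G)⁻¹) * ((y : G)⁻¹)⁻¹ = w by group] at this)
  have h1 := c.T_eq hv hvnc (mem_cen_symm hvx) hx hxn hyT (hwq.conj _) hnc
  have h2 := c.T_eq hv' hv'nc (mem_cen_symm hv'x) hx hxn hw hwq hwnc
  refine ⟨(y : G)⁻¹, inv_mem y.2, ?_⟩
  rw [cen_conj, ← h1, ← cen_conj, ← h2]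
  congr 1
  rw [inv_inv]
  have hxy : x * (y : G) = (y : G) * x := mem_cen.1 y.2
  calc x * w = (y : G)⁻¹ * ((y : G) * x) * w := by group
    _ = (y : G)⁻¹ * (x * (y : G)) * w := by rw [hxy]
    _ = (y : G)⁻¹ * (x * ((y : G) * w * (y : G)⁻¹)) * (y : G) := by group

/-- An `s`-element normalizing but not centralizing `v`. -/
theorem exists_g {x : G} (hxn : sz x = n) (hx : IsPPow p x) (hvx : v ∈ cen x) :
    ∃ g ∈ cen x, IsPPow s g ∧ g ∈ Subgroup.normalizer ((cen v : Subgroup G) : Set G) ∧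
      g ∉ cen v ∧ g ^ s ∈ Subgroup.center G ∧
      ∃ S : Subgroup G, IsPGroup s S ∧ S ≤ cen x ∧ g ∈ S ∧
        ∀ u ∈ cen v, IsPPow s u → u ∈ S := by
  haveI := Fact.mk c.sp
  obtain ⟨R⟩ := (inferInstance : Nonempty (Sylow s (cen v)))
  have hTx := c.s_le_of_mem hv hvnc hvx hx
  set R' := (R : Subgroup (cen v)).map (cen v).subtype with hR'
  have hR'x : R' ≤ cen x := (Subgroup.map_subtype_le _).trans hTx
  obtain ⟨S₀, hS₀⟩ := ((R.isPGroup'.map (cen v).subtype).comap_subtype :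
    IsPGroup s (R'.subgroupOf (cen x))).exists_le_sylow
  set S := (S₀ : Subgroup (cen x)).map (cen x).subtype with hS
  have hSp : IsPGroup s S := S₀.isPGroup'.map _
  have hR'S : R' ≤ S := fun a ha => ⟨⟨a, hR'x ha⟩, hS₀ (Subgroup.mem_subgroupOf.2 ha), rfl⟩
  have hfR : (Nat.card R').factorization s = (Nat.card (cen v)).factorization s := by
    rw [hR', Subgroup.card_map_of_injective (cen v).subtype_injective, R.card_eq_multiplicity,
      c.sp.factorization_pow, Finsupp.single_eq_same]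
  have hmem : ∀ u ∈ cen v, IsPPow s u → u ∈ R' := fun u hu hus =>
    mem_of_normalizes c.sp (R.isPGroup'.map _) (Subgroup.map_subtype_le _) hfR.ge hus hu
      (mem_normalizer_of_commute ((Subgroup.map_subtype_le _).trans (c.comm hv hvnc hu)))
  have hlt : R' < S := by
    refine lt_of_le_of_ne hR'S fun e => ?_
    have h1 : (Nat.card S).factorization s = (Nat.card (cen x)).factorization s := by
      rw [hS, Subgroup.card_map_of_injective (cen x).subtype_injective, S₀.card_eq_multiplicity,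
        c.sp.factorization_pow, Finsupp.single_eq_same]
    rw [← e, hfR] at h1
    have h2 := fac_index s (cen v)
    have h3 := fac_index s (cen x)
    have h4 : (cen x).index.factorization s = 0 := by
      rw [show (cen x).index = n from hxn]; exact Nat.factorization_eq_zero_of_not_dvd c.sn
    have h5 : 0 < (cen v).index.factorization s := by
      rw [show (cen v).index = n * m from c.sT v hv hvnc]
      exact c.sp.factorization_pos_of_dvd (mul_ne_zero c.caseB.n_pos.ne'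
        c.caseB.toQuad.symm.n_pos.ne') (dvd_mul_of_dvd_right c.sm n)
    omega
  haveI : Group.IsNilpotent S := hSp.isNilpotent
  obtain ⟨⟨g₀, hg₀S⟩, hg₀n, hg₀⟩ := SetLike.exists_of_lt
    (Group.normalizerCondition_of_isNilpotent (G := S) (R'.subgroupOf S)
      (lt_top_iff_ne_top.2 fun e => hlt.ne (le_antisymm hR'S (Subgroup.subgroupOf_eq_top.1 e))))
  have hconj : g₀ * v * g₀⁻¹ ∈ R' := by
    have hv' : v ∈ R' := hmem v (mem_cen_self v) hv
    have := (Subgroup.mem_normalizer_iff.1 hg₀n ⟨v, hR'S hv'⟩).1 (Subgroup.mem_subgroupOf.2 hv')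
    simpa [Subgroup.mem_subgroupOf] using this
  have hN : g₀ ∈ Subgroup.normalizer ((cen v : Subgroup G) : Set G) := by
    have he := c.cen_of_s hv hvnc ((Subgroup.map_subtype_le _) hconj) (hv.conj g₀) (fun hz => hvnc (by
      have := (inferInstance : (Subgroup.center G).Normal).conj_mem _ hz g₀⁻¹
      rwa [show g₀⁻¹ * (g₀ * v * g₀⁻¹) * g₀⁻¹⁻¹ = v by group] at this))
    rw [Subgroup.mem_normalizer_iff]
    intro z
    conv_rhs => rw [← he, cen_conj, Subgroup.mem_map_equiv, MulAut.conj_symm_apply]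
    rw [show g₀⁻¹ * (g₀ * z * g₀⁻¹) * g₀ = z by group]
  have hg₀s : IsPPow s g₀ := IsPPow.of_mem hSp hg₀S
  have hg₀T : g₀ ∉ cen v := fun hh => hg₀ (Subgroup.mem_subgroupOf.2 (hmem g₀ hh hg₀s))
  obtain ⟨i, hi1, hi2⟩ := exists_last_pow hg₀s hg₀T
  have hSx : S ≤ cen x := Subgroup.map_subtype_le _
  refine ⟨_, (cen x).pow_mem (hSx hg₀S) _, hg₀s.pow _, Subgroup.pow_mem _ hN _, hi1, ?_,
    S, hSp, hSx, S.pow_mem hg₀S _, fun u hu hus => hR'S (hmem u hu hus)⟩
  by_contra hc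
  refine hi1 ?_
  rw [← c.cen_of_s hv hvnc hi2 ((hg₀s.pow _).pow _) hc]
  exact mem_cen.2 ((Commute.refl _).pow_left s)

/-- The normalizing `s`-element moves the `q`-part. -/
theorem g_fpf_q {x g w : G} (hx : IsPPow p x) (hxn : sz x = n) (hxT : x ∈ cen v)
    (hgx : g ∈ cen x) (hgs : IsPPow s g) (hgT : g ∉ cen v) (hw : w ∈ cen v) (hwq : IsPPow q w)
    (hwnc : w ∉ Subgroup.center G) : g * w * g⁻¹ * w⁻¹ ∉ Subgroup.center G := by
  intro hc
  have h1 : g ∈ cen w := mem_cen_of_coprime hc (hgs.coprime c.sp c.qp c.sq hwq)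
  refine hgT ?_
  rw [← c.T_eq hv hvnc hxT hx hxn hw hwq hwnc,
    cen_mul_eq (mem_cen.1 (c.T_le hv hvnc hxT hx hw)) (hx.coprime c.pp c.qp c.pq hwq)]
  exact ⟨hgx, h1⟩

end Ctx

end Cfsg.Agent.ClassQuad
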